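import Groth.Agent.CdCharPLib.Closed
import Groth.Agent.FinSurjLib.Zmt
import Groth.Agent.EtShLib.FinExtZero
import Mathlib.AlgebraicGeometry.Noetherian

/-!
# Vanishing for direct images with proper support of `ℤ/p` along quasi-finite morphisms
-/

set_option autoImplicit false
set_option linter.unusedSectionVars false
set_option linter.style.haveILetI false
set_option backward.isDefEq.respectTransparency false
set_option backward.isDefEq.respectTransparency.types false
set_option synthInstance.maxHeartbeats 400000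
set_option maxHeartbeats 1000000

universe u

open CategoryTheory CategoryTheory.Limits CategoryTheory.Abelian AlgebraicGeometry Opposite TopologicalSpace
open Groth.Agent Groth.Agent.EtShLib

noncomputable section

namespace CdCharPLib

variable {X : Scheme.{u}}

/-- The cohomology of `F` vanishes above degree `d`. -/
def Van (d : ℕ) (F : EtCoh.Ab X) : Prop := ∀ q : ℕ, d < q → Subsingleton (EtCoh.H X F q)

theorem Van.of_iso {d : ℕ} {F G : EtCoh.Ab X} (h : Van d F) (e : F ≅ G) : Van d G := fun q hq =>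
  haveI := h q hq
  (EtAcycLib.bijective_mk₀_iso_postcomp e q).2.subsingleton

theorem Van.of_retract {d : ℕ} {F G : EtCoh.Ab X} (h : Van d G) (u : F ⟶ G) (v : G ⟶ F) (e : u ≫ v = 𝟙 F) :
    Van d F := fun q hq => by
  haveI := h q hq
  refine subsingleton_of_forall_eq 0 fun (x : Ext.{u + 1} _ F q) => ?_
  have h1 : x.comp (Ext.mk₀ u) (add_zero q) = 0 := Subsingleton.elim (α := EtCoh.H X G q) _ _
  have h2 := congrArg (fun t => Ext.comp t (Ext.mk₀ v) (add_zero q)) h1
  simp only [Ext.comp_assoc_of_second_deg_zero, Ext.mk₀_comp_mk₀, e, Ext.comp_mk₀_id, Ext.zero_comp] at h2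
  exact h2

theorem Van.middle {d : ℕ} {S : ShortComplex (EtCoh.Ab X)} (hS : S.ShortExact) (h1 : Van d S.X₁)
    (h3 : Van d S.X₃) : Van d S.X₂ := fun q hq => by
  refine subsingleton_of_forall_eq 0 fun (x : Ext.{u + 1} _ S.X₂ q) => ?_
  obtain ⟨y, hy⟩ := Ext.covariant_sequence_exact₂ _ hS x
    ((h3 q hq).elim (Ext.comp x (Ext.mk₀ S.g) (add_zero q) : EtCoh.H X S.X₃ q) 0)
  rw [← hy, (h1 q hq).elim (y : EtCoh.H X S.X₁ q) 0, Ext.zero_comp]

theorem van_of_isZero {d : ℕ} {F : EtCoh.Ab X} (h : IsZero F) : Van d F := fun q _ => by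
  refine subsingleton_of_forall_eq 0 fun (x : Ext.{u + 1} _ F q) => ?_
  rw [← Ext.comp_mk₀_id x, h.eq_of_src (𝟙 F) 0, Ext.mk₀_zero, Ext.comp_zero]

theorem van_push {Z : Scheme.{u}} (f : Z ⟶ X) [IsFinite f] {d : ℕ} {A : EtCoh.Ab Z} (h : Van d A) :
    Van d ((EtCoh.push f).obj A) := fun q hq => subsingleton_push_H f A q (h q hq)

theorem locallyOfFinitePresentation_of_noetherian {Z : Scheme.{u}} (f : Z ⟶ X) [LocallyOfFiniteType f]
    [IsLocallyNoetherian X] : LocallyOfFinitePresentation f := by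
  rw [HasRingHomProperty.iff_appLE (P := @LocallyOfFinitePresentation)]
  intro U V e
  have hft : (f.appLE U.1 V.1 e).hom.FiniteType :=
    HasRingHomProperty.appLE @LocallyOfFiniteType f ‹_› U V e
  have : IsNoetherianRing Γ(X, U.1) := IsLocallyNoetherian.component_noetherian U
  exact RingHom.FinitePresentation.of_finiteType.mp hft

/-- The constant sheaf on an isomorphic scheme. -/
theorem nonempty_const_push_iso {A B : Scheme.{u}} (e : A ⟶ B) [IsIso e] (M : Type) [AddCommGroup M] :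
    Nonempty ((EtCoh.push e).obj (EtCoh.const A M) ≅ EtCoh.const B M) := by
  haveI : IsIso ((EtCoh.pullPushAdj e).unit.app (EtCoh.const B M)) :=
    isIso_of_stalks (A := AddCommGrpCat.{u + 1}) _ fun Ω _ _ ξ => by
      obtain ⟨ζ, rfl⟩ : ∃ ζ, ζ ≫ e = ξ := ⟨ξ ≫ inv e, by rw [Category.assoc, IsIso.inv_hom_id, Category.comp_id]⟩
      exact isIso_unit_stalk_closed e _ ζ
  exact ⟨(EtCoh.push e).mapIso (EtCore.pullConst e M).symm ≪≫
    (asIso ((EtCoh.pullPushAdj e).unit.app (EtCoh.const B M))).symm⟩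

/-- `g_! ℤ/p` has no cohomology above degree `d + 1`. -/
theorem van_preF_const [IsNoetherian X] (p : ℕ) [Fact p.Prime] (h0 : (p : Γ(X, ⊤)) = 0) {d : ℕ}
    (h : QcVan X d) {T : Scheme.{u}} (g : T ⟶ X) [LocallyOfFiniteType g] [IsSeparated g]
    [LocallyQuasiFinite g] [QuasiCompact g] :
    Van (d + 1) ((preF g).obj (EtCoh.const T (ZMod p))) := by
  haveI := locallyOfFinitePresentation_of_noetherian g
  obtain ⟨Z, j, π, hj, -, hπ, -, hfac⟩ := FinSurjLib.exists_finite_factorization g
  haveI := hj; haveI := hπ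
  haveI := isIso_preι π
  let U := j.opensRange
  let e : T ⟶ (U : Scheme.{u}) := j.isoOpensRange.hom
  haveI : IsIso e := inferInstance
  haveI := isIso_preι e
  haveI : AlgebraicGeometry.Etale U.ι := inferInstance
  haveI : EtShriek.JCont U.ι := jCont U.ι
  have he : e ≫ U.ι = j := Scheme.Hom.isoOpensRange_hom_ι j
  have hg : (e ≫ U.ι) ≫ π = g := by rw [he, hfac]
  haveI : LocallyOfFiniteType U.ι := inferInstance
  obtain ⟨γ⟩ := nonempty_preF_congr hg
  obtain ⟨c⟩ := nonempty_const_push_iso e (ZMod p)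
  obtain ⟨θ⟩ := nonempty_pull_iso_restrAlong U.ι (EtCoh.const Z (ZMod p))
  let r : EtCoh.const (U : Scheme.{u}) (ZMod p) ≅ (EtShriek.restrAlong U.ι).obj (EtCoh.const Z (ZMod p)) :=
    (EtCore.pullConst U.ι (ZMod p)).symm ≪≫ θ
  have h1 : Van (d + 1) ((EtShriek.extZero U.ι).obj ((EtShriek.restrAlong U.ι).obj (EtCoh.const Z (ZMod p)))) :=
    fun q hq => subsingleton_extZero p (natCast_eq_zero_of_hom π p h0) (h.affine π) U q hq
  refine ((van_push π h1).of_iso ?_).of_iso (γ.app (EtCoh.const T (ZMod p)))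
  exact (EtCoh.push π).mapIso ((extZeroPreIso U.ι).app _ ≪≫ (preF U.ι).mapIso (r.symm ≪≫ c.symm ≪≫
      ((asIso (preι e)).app _).symm) ≪≫ ((preCompIso e U.ι).app _).symm) ≪≫
    ((asIso (preι π)).app _).symm ≪≫ ((preCompIso (e ≫ U.ι) π).app _).symm

end CdCharPLib

end
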