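import Groth.Agent.CdCharPLib.Kernel
import Groth.Agent.CdCharPLib.Seq
import Groth.Agent.AsCohLib.Basic
import Groth.Agent.CovDevLib.Base
import Groth.Agent.EtShLib.FlcFiltration

/-!
# Extensions by zero of `ℤ/p` in characteristic `p`
-/

set_option autoImplicit false
set_option linter.unusedSectionVars false
set_option linter.style.haveILetI false
set_option backward.isDefEq.respectTransparency false
set_option backward.isDefEq.respectTransparency.types false
set_option synthInstance.maxHeartbeats 400000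
set_option maxHeartbeats 1000000

universe u

open CategoryTheory CategoryTheory.Limits CategoryTheory.Abelian AlgebraicGeometry Opposite TopologicalSpace
open Groth.Agent Groth.Agent.EtShLib

noncomputable section

namespace CdCharPLib

/-- Quasi-coherent cohomology vanishes above degree `d`. -/
def QcVan (X : Scheme.{u}) (d : ℕ) : Prop :=
  ∀ M : X.Modules, Coh.IsQCoh M → ∀ q : ℕ, d < q → Subsingleton (Coh.HH X M q)

theorem QcVan.affine {X Z : Scheme.{u}} {d : ℕ} (h : QcVan X d) (f : Z ⟶ X) [IsAffineHom f] : QcVan Z d := by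
  intro M hM q hq
  haveI := hM
  obtain ⟨e⟩ := QCohLib.nonempty_HH_push f M q
  haveI := h _ (QCohLib.isQCoh_pushforward f M) q hq
  exact e.toEquiv.subsingleton

theorem subsingleton_Ga {X : Scheme.{u}} {d : ℕ} (h : QcVan X d) (q : ℕ) (hq : d < q) :
    Subsingleton (EtCoh.H X (EtCoh.Ga X) q) := by
  haveI : EtZar.ZarCont X := EtZarLib.zarCont X
  obtain ⟨e⟩ := EtZarLib.nonempty_Ga_equiv X q
  haveI := h _ QCohLib.isQCoh_unit q hq
  exact e.toEquiv.subsingleton

theorem subsingleton_const {X : Scheme.{u}} (p : ℕ) [Fact p.Prime] (h0 : (p : Γ(X, ⊤)) = 0) {d : ℕ}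
    (h : QcVan X d) (q : ℕ) (hq : d + 1 < q) :
    Subsingleton (EtCoh.H X (EtCoh.const X (ZMod p)) q) := by
  obtain ⟨r, rfl⟩ := Nat.exists_eq_succ_of_ne_zero (show q ≠ 0 by omega)
  exact AsCohLib.subsingleton_const p h0 r (subsingleton_Ga h (r + 1) (by omega)) (subsingleton_Ga h r (by omega))

theorem natCast_eq_zero_of_hom {Z X : Scheme.{u}} (f : Z ⟶ X) (p : ℕ) (h0 : (p : Γ(X, ⊤)) = 0) :
    (p : Γ(Z, ⊤)) = 0 := by
  rw [← map_natCast f.appTop.hom p, h0, map_zero]

theorem subsingleton_push_H {X Y : Scheme.{u}} (i : Y ⟶ X) [IsFinite i] (A : EtCoh.Ab Y) (q : ℕ)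
    (h : Subsingleton (EtCoh.H Y A q)) : Subsingleton (EtCoh.H X ((EtCoh.push i).obj A) q) :=
  (CovDevLib.bijective_mu (p := i) A q).1.subsingleton

variable {X Y : Scheme.{u}} (i : Y ⟶ X) [IsClosedImmersion i] (p : ℕ) [hp : Fact p.Prime]
  (h0 : (p : Γ(X, ⊤)) = 0)

include h0 in
/-- Classes of the restriction to a closed subscheme lift in degree `d + 1`. -/
theorem surjective_unit {d : ℕ} (h : QcVan X d)
    (x' : EtCoh.H X ((EtCoh.push i).obj ((EtCoh.pull i).obj (EtCoh.const X (ZMod p)))) (d + 1)) :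
    ∃ x : EtCoh.H X (EtCoh.const X (ZMod p)) (d + 1),
      Ext.comp x (Ext.mk₀ ((EtCoh.pullPushAdj i).unit.app _)) (add_zero (d + 1)) = x' := by
  have h0' := natCast_eq_zero_of_hom i p h0
  obtain ⟨φ, w, hφ, hS⟩ := exists_artinSchreier_one (X := X) p h0
  obtain ⟨φ', w', hφ', hS'⟩ := exists_artinSchreier_one (X := Y) p h0'
  haveI : (EtCoh.push i).Additive := { }
  haveI := preservesHomology_push_finite i
  haveI : PreservesFiniteLimits (EtCoh.push i) := (EtCoh.push i).preservesFiniteLimits_of_preservesHomology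
  haveI : PreservesFiniteColimits (EtCoh.push i) := (EtCoh.push i).preservesFiniteColimits_of_preservesHomology
  let as' := W4c5etcohweilstudent.artinSchreierEndo Y p hp.out h0'
  let χ : (EtCoh.pull i).obj (EtCoh.const X (ZMod p)) ⟶ EtCoh.Ga Y :=
    ((EtCoh.pullPushAdj i).homEquiv _ _).symm (φ ≫ resGa i)
  have hχ : (EtCoh.pullPushAdj i).unit.app _ ≫ (EtCoh.push i).map χ = φ ≫ resGa i :=
    ((EtCoh.pullPushAdj i).homEquiv_unit (f := χ)).symm.trans (Equiv.apply_symm_apply _ _)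
  have hχw : χ ≫ as' = 0 := by
    apply ((EtCoh.pullPushAdj i).homEquiv _ _).injective
    rw [Adjunction.homEquiv_unit, Adjunction.homEquiv_unit, Functor.map_comp, ← Category.assoc, hχ,
      Category.assoc, ← resGa_as i p hp.out h0 h0', ← Category.assoc, w, zero_comp, Functor.map_zero, comp_zero]
  haveI := hS'.mono_f
  obtain ⟨l, hl⟩ : ∃ l : (EtCoh.pull i).obj (EtCoh.const X (ZMod p)) ⟶ EtCoh.const Y (ZMod p), l ≫ φ' = χ :=
    ⟨_, hS'.exact.lift_f χ hχw⟩
  haveI : IsIso l := by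
    refine isIso_of_stalks (A := AddCommGrpCat.{u + 1}) _ fun Ω _ _ ξ => ?_
    let A := AddCommGrpCat.of (ULift.{u + 1} (ZMod p))
    obtain ⟨c, -⟩ := exists_fib (ξ ≫ i) (EtCoh.top X) ((ξ ≫ i).base default) rfl
    obtain ⟨c', -⟩ := exists_fib ξ (EtCoh.top Y) (ξ.base default) rfl
    haveI := isCst_cstUnit (X := X) A Ω (ξ ≫ i) c
    haveI := isCst_cstUnit (X := Y) A Ω ξ c'
    let γ := cstUnit X A ≫ germ (ξ ≫ i) (EtCoh.const X (ZMod p)) (EtCoh.top X) c
    let γ' := cstUnit Y A ≫ germ ξ (EtCoh.const Y (ZMod p)) (EtCoh.top Y) c'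
    let e : A ⟶ A := γ ≫ (stalkPull i ξ AddCommGrpCat.{u + 1}).hom.app (EtCoh.const X (ZMod p)) ≫
      (stk (A := AddCommGrpCat.{u + 1}) ξ).map l ≫ inv γ'
    have hne : e ⟨1⟩ ≠ 0 := fun he => by
      have h1 : (stk (A := AddCommGrpCat.{u + 1}) ξ).map l
          ((stalkPull i ξ AddCommGrpCat.{u + 1}).hom.app (EtCoh.const X (ZMod p)) (γ ⟨1⟩)) = 0 :=
        (injective_iff_map_eq_zero _).1 (ConcreteCategory.bijective_of_isIso (inv γ')).1 _ he
      have h2 : (stk (A := AddCommGrpCat.{u + 1}) ξ).map χ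
          ((stalkPull i ξ AddCommGrpCat.{u + 1}).hom.app (EtCoh.const X (ZMod p)) (γ ⟨1⟩)) = 0 := by
        rw [← hl, Functor.map_comp, ConcreteCategory.comp_apply, h1, map_zero]
      let W := (EtCoh.bc i).obj (EtCoh.top X)
      let v := c.lift i ξ
      let t : ToType ((EtCoh.const X (ZMod p)).obj.obj (op (EtCoh.top X))) := cstUnit X A ⟨1⟩
      have h3 : (stalkPull i ξ AddCommGrpCat.{u + 1}).hom.app (EtCoh.const X (ZMod p)) (γ ⟨1⟩) =
          germ (A := AddCommGrpCat.{u + 1}) ξ ((EtCoh.pull i).obj (EtCoh.const X (ZMod p))) W v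
            (((adjA i AddCommGrpCat.{u + 1}).unit.app (EtCoh.const X (ZMod p))).hom.app (op (EtCoh.top X)) t) :=
        ConcreteCategory.congr_hom (germ_stalkPull i ξ AddCommGrpCat.{u + 1} (EtCoh.const X (ZMod p)) (EtCoh.top X) c) t
      rw [h3, germ_natural_apply] at h2
      have h4 : χ.hom.app (op W) (((adjA i AddCommGrpCat.{u + 1}).unit.app (EtCoh.const X (ZMod p))).hom.app
          (op (EtCoh.top X)) t) = ULift.up (1 : Γ(W.left, ⊤)) := by
        refine (congrArg (fun m : EtCoh.const X (ZMod p) ⟶ (EtCoh.push i).obj (EtCoh.Ga Y) =>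
          m.hom.app (op (EtCoh.top X)) t) hχ).trans ?_
        show (resGa i).hom.app (op (EtCoh.top X)) (φ.hom.app (op (EtCoh.top X)) t) = _
        rw [hφ]
        exact ULift.ext _ _ (map_one (resY i (EtCoh.top X)))
      rw [h4] at h2
      obtain ⟨V, g, z, -, he'⟩ := (germ_eq_iff (A := AddCommGrpCat.{u + 1}) ξ W v _ 0).1
        (h2.trans (map_zero _).symm)
      rw [map_zero] at he'
      have h5 : g.left.appTop.hom (1 : Γ(W.left, ⊤)) = 0 := congrArg ULift.down he'
      rw [map_one] at h5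
      haveI : Nonempty (⊤ : V.left.Opens) := ⟨⟨z.pt, trivial⟩⟩
      exact one_ne_zero h5
    have hinj : Function.Injective e := (injective_iff_map_eq_zero _).2 fun a ha => by
      obtain ⟨a⟩ := a
      have h1 : (⟨a⟩ : ULift.{u + 1} (ZMod p)) = a.val • (⟨1⟩ : ULift.{u + 1} (ZMod p)) :=
        ULift.ext _ _ (by
          show a = a.val • (1 : ZMod p)
          rw [nsmul_one, ZMod.natCast_zmod_val])
      rw [h1, map_nsmul] at ha
      have h4 : p • e ⟨1⟩ = 0 := ULift.ext _ _ (by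
        show p • (e ⟨1⟩).down = 0
        rw [nsmul_eq_mul, ZMod.natCast_self, zero_mul])
      have h5 := addOrderOf_dvd_of_nsmul_eq_zero ha
      rw [addOrderOf_eq_prime h4 hne] at h5
      rw [h1, Nat.eq_zero_of_dvd_of_lt h5 (ZMod.val_lt a), zero_smul]
    haveI : Finite A := inferInstanceAs (Finite (ULift.{u + 1} (ZMod p)))
    haveI : IsIso e := (ConcreteCategory.isIso_iff_bijective _).2 (Finite.injective_iff_bijective.1 hinj)
    have he : (stk (A := AddCommGrpCat.{u + 1}) ξ).map l =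
        inv (γ ≫ (stalkPull i ξ AddCommGrpCat.{u + 1}).hom.app (EtCoh.const X (ZMod p))) ≫ e ≫ γ' := by
      simp only [e, Category.assoc, IsIso.inv_hom_id, Category.comp_id, IsIso.inv_comp, IsIso.inv_hom_id_assoc]
    rw [he]
    infer_instance
  let S'' := ShortComplex.mk χ as' hχw
  have hS'' : S''.ShortExact := ShortComplex.shortExact_of_iso
    (ShortComplex.isoMk (S₁ := ShortComplex.mk φ' as' w') (S₂ := S'') (asIso l).symm (Iso.refl _) (Iso.refl _)
      (by simp [S'', ← hl]) (by simp [S'', as'])) hS'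
  have hB := hS''.map_of_exact (EtCoh.push i)
  let S := ShortComplex.mk φ (W4c5etcohweilstudent.artinSchreierEndo X p hp.out h0) w
  let τ : S ⟶ S''.map (EtCoh.push i) :=
    ShortComplex.homMk ((EtCoh.pullPushAdj i).unit.app _) (resGa i) (resGa i) hχ
      (resGa_as i p hp.out h0 h0').symm
  have h2 : Subsingleton (EtCoh.H X ((EtCoh.push i).obj (EtCoh.Ga Y)) (d + 1)) :=
    subsingleton_push_H i _ _ (subsingleton_Ga (h.affine i) (d + 1) (by omega))
  obtain ⟨y', hy'⟩ := Ext.covariant_sequence_exact₁ _ hB (x' : Ext.{u + 1} _ _ (d + 1))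
    (h2.elim (Ext.comp (x' : Ext.{u + 1} _ _ (d + 1)) (Ext.mk₀ ((EtCoh.push i).map χ)) (add_zero (d + 1)) :
      EtCoh.H X ((EtCoh.push i).obj (EtCoh.Ga Y)) (d + 1)) 0) (n₀ := d) rfl
  haveI := epi_resGa i
  let K := ShortComplex.mk (kernel.ι (resGa i)) (resGa i) (kernel.condition _)
  have hK : K.ShortExact := { exact := ShortComplex.exact_of_f_is_kernel _ (kernelIsKernel _) }
  have hK1 : Subsingleton (EtCoh.H X (kernel (resGa i)) (d + 1)) :=
    subsingleton_H_kernel i (d + 1) fun M hM => h M hM (d + 1) (by omega)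
  obtain ⟨y, hy⟩ := Ext.covariant_sequence_exact₃ _ hK (y' : Ext.{u + 1} _ _ d) (n₁ := d + 1) rfl
    (hK1.elim (Ext.comp (y' : Ext.{u + 1} _ _ d) hK.extClass rfl : EtCoh.H X (kernel (resGa i)) (d + 1)) 0)
  refine ⟨Ext.comp y hS.extClass rfl, ?_⟩
  rw [← hy', ← hy]
  refine ((Ext.comp_assoc_of_third_deg_zero _ _ _ rfl).trans ?_).trans
    (Ext.comp_assoc_of_second_deg_zero _ _ _ _).symm
  exact congrArg (fun t => Ext.comp y t rfl) (ShortComplex.ShortExact.extClass_naturality hS hB τ)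

omit i in
include h0 in
/-- Extensions by zero of `ℤ/p` from opens have no cohomology above degree `d + 1`. -/
theorem subsingleton_extZero {d : ℕ} (h : QcVan X d) (U : X.Opens)
    [AlgebraicGeometry.Etale U.ι] [EtShriek.JCont U.ι] (q : ℕ) (hq : d + 1 < q) :
    Subsingleton (EtCoh.H X
      ((EtShriek.extZero U.ι).obj ((EtShriek.restrAlong U.ι).obj (EtCoh.const X (ZMod p)))) q) := by
  obtain ⟨Z, c, hc, -, hr⟩ := exists_reduced_immersion (X := X) (E := (U : Set X)ᶜ)
    U.isOpen.isClosed_compl.isLocallyClosed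
  haveI := hc
  haveI : IsClosedImmersion c := IsClosedImmersion.of_isPreimmersion c (by rw [hr]; exact U.isOpen.isClosed_compl)
  obtain ⟨w, hS⟩ := shortExact_recollement c U (by rw [hr, compl_compl]) (EtCoh.const X (ZMod p))
  obtain ⟨r, rfl⟩ := Nat.exists_eq_succ_of_ne_zero (show q ≠ 0 by omega)
  refine subsingleton_of_forall_eq 0 fun (x : Ext.{u + 1} _ _ (r + 1)) => ?_
  have h1 := subsingleton_const p h0 h (r + 1) hq
  obtain ⟨y, hy⟩ := Ext.covariant_sequence_exact₁ _ hS x
    (h1.elim (Ext.comp x (Ext.mk₀ _) (add_zero (r + 1)) : EtCoh.H X (EtCoh.const X (ZMod p)) (r + 1)) 0)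
    (n₀ := r) rfl
  by_cases hr' : r = d + 1
  · subst hr'
    obtain ⟨z, hz⟩ := surjective_unit c p h0 h y
    rw [← hy, ← hz]
    exact (Ext.comp_assoc_of_second_deg_zero _ _ _ _).trans (by
      exact (congrArg (fun t => Ext.comp z t rfl) hS.comp_extClass).trans (Ext.comp_zero _ _ _ _ _))
  · have hY : Subsingleton (EtCoh.H Z ((EtCoh.pull c).obj (EtCoh.const X (ZMod p))) r) :=
      haveI := subsingleton_const p (natCast_eq_zero_of_hom c p h0) (h.affine c) r (by omega)
      (EtAcycLib.bijective_mk₀_iso_postcomp (EtCore.pullConst c (ZMod p)) r).1.subsingleton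
    have h2 := subsingleton_push_H c _ r hY
    rw [← hy, h2.elim (y : EtCoh.H X _ r) 0, Ext.zero_comp]

end CdCharPLib

end
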