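import Groth.Agent.CdCharPLib.Trace
import Groth.Agent.LcRepLib.Points
import Groth.Agent.CdOneLib.Cons
import Mathlib.GroupTheory.OrderOfElement

/-!
# The nonzero part of the scheme representing a locally constant sheaf killed by `p`
-/

set_option autoImplicit false
set_option linter.unusedSectionVars false
set_option linter.style.haveILetI false
set_option backward.isDefEq.respectTransparency false
set_option backward.isDefEq.respectTransparency.types false
set_option synthInstance.maxHeartbeats 400000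
set_option maxHeartbeats 1000000

universe u

open CategoryTheory CategoryTheory.Limits AlgebraicGeometry Opposite TopologicalSpace
open Groth.Agent Groth.Agent.EtShLib

noncomputable section

namespace CdCharPLib

variable {T : Scheme.{u}}

theorem stk_nsmul_eq_zero {p : ℕ} {G : EtCoh.Ab T} (hG : p • 𝟙 G = 0) {Ω : Type u} [Field Ω] [IsSepClosed Ω]
    (ξ : Spec (CommRingCat.of Ω) ⟶ T) (P : ToType ((stk (A := AddCommGrpCat.{u + 1}) ξ).obj G)) : p • P = 0 := by
  obtain ⟨W, w, s, rfl⟩ := exists_germ (A := AddCommGrpCat.{u + 1}) ξ P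
  rw [← map_nsmul, ← EtTransferLib.nsmul_id_app G p W s, hG]
  exact map_zero _

theorem nsmul_pull {S : Scheme.{u}} (f : S ⟶ T) {p : ℕ} {G : EtCoh.Ab T} (hG : p • 𝟙 G = 0) :
    p • 𝟙 ((EtCoh.pull f).obj G) = 0 := by
  rw [← CategoryTheory.Functor.map_id, ← Functor.map_nsmul, hG, Functor.map_zero]

/-- A finite group killed by `p` has order prime to `p` after removing `0`, unless trivial. -/
theorem coprime_card_ne_zero {A : Type*} [AddCommGroup A] [Finite A] (p : ℕ) [hp : Fact p.Prime]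
    (h : ∀ a : A, p • a = 0) : Nat.Coprime p (Nat.card {a : A // a ≠ 0}) ∨ Subsingleton A := by
  classical
  haveI := Fintype.ofFinite A
  rcases subsingleton_or_nontrivial A with hA | hA
  · exact Or.inr hA
  refine Or.inl ?_
  obtain ⟨a, ha⟩ := exists_ne (0 : A)
  have hd : p ∣ Nat.card A := addOrderOf_eq_prime (h a) ha ▸ addOrderOf_dvd_natCard a
  have hc : Nat.card {a : A // a ≠ 0} = Nat.card A - 1 := by
    rw [Nat.card_eq_fintype_card, Nat.card_eq_fintype_card, Fintype.card_subtype_compl,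
      Fintype.card_subtype_eq]
  rw [hc]
  refine hp.out.coprime_iff_not_dvd.2 fun hd' => hp.out.one_lt.ne' ?_
  have hpos : 0 < Nat.card A := Nat.card_pos
  have h1 := Nat.dvd_sub hd hd'
  rw [Nat.sub_sub_self hpos] at h1
  exact Nat.dvd_one.1 h1

/-- A finite étale scheme over which a locally constant sheaf killed by `p` has a nowhere vanishing section,
and from which it is a direct summand. -/
theorem exists_section_cover (p : ℕ) [hp : Fact p.Prime] (L : EtCoh.Ab T)
    (hL : LC (fun M : AddCommGrpCat.{u + 1} => Finite M) L) (hpL : p • 𝟙 L = 0) :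
    ∃ (E : Scheme.{u}) (π : E ⟶ T) (_ : IsFinite π) (_ : AlgebraicGeometry.Etale π)
      (v : (EtCoh.push π).obj ((EtCoh.pull π).obj L) ⟶ L)
      (φ : EtCoh.const E (ZMod p) ⟶ (EtCoh.pull π).obj L),
      (EtCoh.pullPushAdj π).unit.app L ≫ v = 𝟙 L ∧ Mono φ := by
  obtain ⟨U, σ, hU, hb⟩ := LcRepLib.exists_finite_rep_ab L hL
  haveI : IsFinite U.hom := hU
  haveI : AlgebraicGeometry.Etale U.hom := U.prop
  obtain ⟨z, hz⟩ := (LcRepLib.bijective_pullSection U σ hb (EtCoh.top T)).2 0
  replace hz : L.obj.map z.op σ = 0 := hz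
  have hzw : z.left ≫ U.hom = 𝟙 T := MorphismProperty.Over.w z
  haveI : IsClosedImmersion (z.left ≫ U.hom) := by
    rw [hzw]
    exact (inferInstanceAs (IsClosedImmersion (𝟙 T)))
  haveI : IsClosedImmersion z.left := IsClosedImmersion.of_comp z.left U.hom
  haveI : AlgebraicGeometry.Etale z.left := etale_left z
  let O : U.left.Opens := ⟨(Set.range z.left.base)ᶜ, z.left.isClosedEmbedding.isClosed_range.isOpen_compl⟩
  have hOc : IsClosed (Set.range O.ι.base) := by
    rw [Scheme.Opens.range_ι]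
    exact z.left.isOpenMap.isOpen_range.isClosed_compl
  haveI : IsClosedImmersion O.ι := IsClosedImmersion.of_isPreimmersion O.ι hOc
  let π : O.toScheme ⟶ T := O.ι ≫ U.hom
  haveI : IsFinite π := inferInstance
  haveI : AlgebraicGeometry.Etale π := inferInstance
  have hpt : ∀ (Ω : Type u) [Field Ω] [IsSepClosed Ω] (ξ : Spec (CommRingCat.of Ω) ⟶ T) (x : Fib ξ U),
      x.pt ∈ O ↔ germ (A := AddCommGrpCat.{u + 1}) ξ L U x σ ≠ 0 := by
    intro Ω _ _ ξ x
    show x.pt ∈ (Set.range z.left.base)ᶜ ↔ _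
    rw [Set.mem_compl_iff, not_iff_not]
    constructor
    · rintro ⟨y, hy⟩
      obtain ⟨l, hl, -⟩ := Scheme.exists_fac_of_etale_of_isSepClosed z.left x.hom y hy
      let c : Fib ξ (EtCoh.top T) := Fib.mk l (by
        show l ≫ 𝟙 T = ξ
        rw [← hzw, ← Category.assoc, hl]
        exact x.w)
      have hc : c.map z = x := Fib.ext ((Fib.map_hom z c).trans hl)
      rw [← hc, ← germ_res_apply, hz, map_zero]
    · intro h
      obtain ⟨c, -⟩ := exists_fib ξ (EtCoh.top T) (ξ.base default) rfl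
      have hc : c.map z = x := (hb Ω ξ).1 (by
        show germ (A := AddCommGrpCat.{u + 1}) ξ L U (c.map z) σ = germ (A := AddCommGrpCat.{u + 1}) ξ L U x σ
        rw [h, ← germ_res_apply, hz, map_zero])
      rw [← hc]
      exact ⟨c.pt, (congrArg (fun t => t.base default) (Fib.map_hom z c)).symm⟩
  have hcard : ∀ (Ω : Type u) [Field Ω] [IsSepClosed Ω] (ξ : Spec (CommRingCat.of Ω) ⟶ T),
      Nat.Coprime p (Nat.card {u : Spec (CommRingCat.of Ω) ⟶ O.toScheme // u ≫ π = ξ}) ∨
        Subsingleton ((stk (A := AddCommGrpCat.{u + 1}) ξ).obj L) := by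
    intro Ω _ _ ξ
    haveI : Finite {u : Spec (CommRingCat.of Ω) ⟶ U.left // u ≫ U.hom = ξ} := finite_lifts U.hom ξ
    haveI : Finite (Fib ξ U) := Finite.of_injective
      (fun x => (⟨x.hom, x.w⟩ : {u : Spec (CommRingCat.of Ω) ⟶ U.left // u ≫ U.hom = ξ}))
      fun a b h => Fib.ext (congrArg Subtype.val h)
    haveI : Finite ((stk (A := AddCommGrpCat.{u + 1}) ξ).obj L) := Finite.of_surjective _ (hb Ω ξ).2
    refine (coprime_card_ne_zero p (stk_nsmul_eq_zero hpL ξ)).imp_left fun h => ?_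
    refine (Nat.card_eq_of_bijective (fun a : {u : Spec (CommRingCat.of Ω) ⟶ O.toScheme // u ≫ π = ξ} =>
      (⟨germ (A := AddCommGrpCat.{u + 1}) ξ L U
          (Fib.mk (a.1 ≫ O.ι) ((Category.assoc _ _ _).trans a.2)) σ,
        (hpt Ω ξ _).1 (by
          show (a.1 ≫ O.ι).base default ∈ O
          exact (a.1.base default).2)⟩ :
        {b : ToType ((stk (A := AddCommGrpCat.{u + 1}) ξ).obj L) // b ≠ 0})) ⟨?_, ?_⟩).symm ▸ h
    · intro a b hab
      have := congrArg (fun y : Fib ξ U => y.hom) ((hb Ω ξ).1 (congrArg Subtype.val hab))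
      exact Subtype.ext ((cancel_mono O.ι).1 this)
    · rintro ⟨b, hb0⟩
      obtain ⟨x, rfl⟩ := (hb Ω ξ).2 b
      have hx : x.pt ∈ O := (hpt Ω ξ x).2 hb0
      have hr : Set.range x.hom.base ⊆ Set.range O.ι.base := by
        rintro _ ⟨y, rfl⟩
        rw [Scheme.Opens.range_ι, Subsingleton.elim y default]
        exact hx
      refine ⟨⟨IsOpenImmersion.lift O.ι x.hom hr, ?_⟩, Subtype.ext (congrArg
        (fun y => germ (A := AddCommGrpCat.{u + 1}) ξ L U y σ) (Fib.ext (IsOpenImmersion.lift_fac _ _ _)))⟩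
      show _ ≫ O.ι ≫ U.hom = ξ
      rw [IsOpenImmersion.lift_fac_assoc]
      exact x.w
  obtain ⟨v, hv⟩ := exists_retraction π p L hpL hcard
  let Eo : T.Etale := Scheme.Etale.mk π
  let ι' : Eo ⟶ U := MorphismProperty.Over.homMk O.ι rfl
  let δ : EtCoh.top O.toScheme ⟶ (EtCoh.bc π).obj Eo :=
    MorphismProperty.Over.homMk (pullback.lift (𝟙 _) (𝟙 _) rfl) (pullback.lift_snd _ _ _)
  let G := (EtCoh.pull π).obj L
  let s : ToType (G.obj.obj (op ((EtCoh.bc π).obj Eo))) :=
    ((adjA π AddCommGrpCat.{u + 1}).unit.app L).hom.app (op Eo) (L.obj.map ι'.op σ)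
  let t : ToType (G.obj.obj (op (EtCoh.top O.toScheme))) := G.obj.map δ.op s
  have htp : p • t = 0 := (EtTransferLib.nsmul_id_app G p (EtCoh.top O.toScheme) t).symm.trans
    (congrArg (fun m : G ⟶ G => m.hom.app (op (EtCoh.top O.toScheme)) t) (nsmul_pull π hpL))
  obtain ⟨φ, hφ⟩ := CdOneLib.exists_hom_of_torsion_section p G t htp
  refine ⟨O.toScheme, π, inferInstance, inferInstance, v, φ, hv,
    CdOneLib.mono_of_torsion_section p φ t hφ htp fun Ω _ _ ξ c h => ?_⟩
  have hcw : c.hom = ξ := (Category.comp_id c.hom).symm.trans c.w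
  let u₀ : Fib (ξ ≫ π) Eo := Fib.mk ξ rfl
  have h1 : c.map δ = u₀.lift π ξ := Fib.ext ((Fib.map_hom δ c).trans (by
    refine pullback.hom_ext ?_ ?_
    · show (c.hom ≫ pullback.lift _ _ _) ≫ pullback.fst _ _ = (u₀.lift π ξ).hom ≫ pullback.fst _ _
      rw [Category.assoc, pullback.lift_fst]
      exact ((Category.comp_id _).trans hcw).trans (pullback.lift_fst _ _ _).symm
    · show (c.hom ≫ pullback.lift _ _ _) ≫ pullback.snd _ _ = (u₀.lift π ξ).hom ≫ pullback.snd _ _
      rw [Category.assoc, pullback.lift_snd]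
      exact ((Category.comp_id _).trans hcw).trans (pullback.lift_snd _ _ _).symm))
  rw [germ_res_apply, h1] at h
  have h2 : (stalkPull π ξ AddCommGrpCat.{u + 1}).hom.app L
      (germ (A := AddCommGrpCat.{u + 1}) (ξ ≫ π) L Eo u₀ (L.obj.map ι'.op σ)) = 0 :=
    (ConcreteCategory.congr_hom (germ_stalkPull π ξ AddCommGrpCat.{u + 1} L Eo u₀) (L.obj.map ι'.op σ)).trans h
  have h3 := (injective_iff_map_eq_zero _).1
    ((stalkPull π ξ AddCommGrpCat.{u + 1}).app L).addCommGroupIsoToAddEquiv.injective _ h2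
  rw [germ_res_apply] at h3
  refine (hpt Ω (ξ ≫ π) (u₀.map ι')).1 ?_ h3
  show (ξ ≫ O.ι).base default ∈ O
  exact (ξ.base default).2

end CdCharPLib

end
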