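import Groth.Agent.CdCharPLib.Base
import Groth.Agent.CdCharPLib.Rep
import Groth.Agent.EtShLib.LqfExact
import Groth.Agent.EtShLib.Generate

/-!
# Dévissage: constructible sheaves killed by `p`
-/

set_option autoImplicit false
set_option linter.unusedSectionVars false
set_option linter.style.haveILetI false
set_option backward.isDefEq.respectTransparency false
set_option backward.isDefEq.respectTransparency.types false
set_option synthInstance.maxHeartbeats 400000
set_option maxHeartbeats 1000000

universe u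

open CategoryTheory CategoryTheory.Limits CategoryTheory.Abelian AlgebraicGeometry Opposite TopologicalSpace
open Groth.Agent Groth.Agent.EtShLib

noncomputable section

namespace CdCharPLib

theorem nsmul_eq_zero_of_stk {T : Scheme.{u}} {p : ℕ} {G : EtCoh.Ab T}
    (h : ∀ (Ω : Type u) [Field Ω] [IsSepClosed Ω] (ξ : Spec (CommRingCat.of Ω) ⟶ T)
      (P : ToType ((stk (A := AddCommGrpCat.{u + 1}) ξ).obj G)), p • P = 0) : p • 𝟙 G = 0 := by
  refine Sheaf.hom_ext (NatTrans.ext (funext fun U => ConcreteCategory.hom_ext _ _ fun s => ?_))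
  rw [EtTransferLib.nsmul_id_app]
  refine eq_of_germ (A := AddCommGrpCat.{u + 1}) G _ _ fun Ω _ _ ξ z => ?_
  rw [map_nsmul, h]
  exact (map_zero _).symm

theorem isZero_of_stk {T : Scheme.{u}} {G : EtCoh.Ab T}
    (h : ∀ (Ω : Type u) [Field Ω] [IsSepClosed Ω] (ξ : Spec (CommRingCat.of Ω) ⟶ T),
      IsZero ((stk (A := AddCommGrpCat.{u + 1}) ξ).obj G)) : IsZero G := by
  haveI : IsIso (0 : G ⟶ G) := isIso_of_stalks (A := AddCommGrpCat.{u + 1}) _
    fun Ω _ _ ξ => ⟨0, (h Ω ξ).eq_of_src _ _, (h Ω ξ).eq_of_src _ _⟩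
  rw [IsZero.iff_id_eq_zero, ← cancel_mono (0 : G ⟶ G)]
  simp

theorem additive_preF {T X : Scheme.{u}} (g : T ⟶ X) [LocallyOfFiniteType g] : (preF g).Additive :=
  { map_add := fun {F G α β} => Sheaf.hom_ext (by
      ext V : 2
      ext s
      rfl) }

theorem shortExact_preF {T X : Scheme.{u}} (g : T ⟶ X) [LocallyOfFiniteType g] [IsSeparated g]
    [LocallyQuasiFinite g] {S : ShortComplex (EtCoh.Ab T)} (hS : S.ShortExact) :
    haveI := additive_preF g
    (S.map (preF g)).ShortExact := by
  haveI := additive_preF g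
  haveI := preservesColimits_preF g
  haveI : PreservesFiniteColimits (preF g) := PreservesColimitsOfSize.preservesFiniteColimits _
  haveI := preservesMonomorphisms_preF g
  haveI : (preF g).PreservesHomology := Functor.preservesHomology_of_preservesMonos_and_cokernels _
  haveI : PreservesFiniteLimits (preF g) := Functor.preservesFiniteLimits_of_preservesHomology (preF g)
  exact hS.map_of_exact (preF g)

/-- All stalks have at most `N + 1` elements. -/
def StkLe {T : Scheme.{u}} (L : EtCoh.Ab T) (N : ℕ) : Prop :=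
  ∀ (Ω : Type u) [Field Ω] [IsSepClosed Ω] (ξ : Spec (CommRingCat.of Ω) ⟶ T),
    Finite ((stk (A := AddCommGrpCat.{u + 1}) ξ).obj L) ∧
      Nat.card ((stk (A := AddCommGrpCat.{u + 1}) ξ).obj L) ≤ N + 1

theorem exists_stkLe {T : Scheme.{u}} [CompactSpace T] {L : EtCoh.Ab T}
    (hL : LC (fun M : AddCommGrpCat.{u + 1} => Finite M) L) : ∃ N, StkLe L N := by
  choose U y M η hy hM hη using hL
  have ho : ∀ x, IsOpen (Set.range (U x).hom.base) := fun x => by
    haveI : AlgebraicGeometry.Etale (U x).hom := (U x).prop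
    exact (U x).hom.isOpenMap.isOpen_range
  obtain ⟨t, ht⟩ := isCompact_univ.elim_finite_subcover (fun x => Set.range (U x).hom.base) ho
    fun x _ => Set.mem_iUnion.2 ⟨x, y x, hy x⟩
  refine ⟨∑ x ∈ t, Nat.card (M x), fun Ω _ _ ξ => ?_⟩
  obtain ⟨x, hxt, z, hz⟩ := Set.mem_iUnion₂.1 (ht (Set.mem_univ (ξ.base default)))
  obtain ⟨u, -⟩ := exists_fib ξ (U x) z hz
  haveI := hη x Ω ξ u
  haveI : Finite (M x) := hM x
  have hb := ConcreteCategory.bijective_of_isIso (η x ≫ germ ξ L (U x) u)
  refine ⟨Finite.of_surjective _ hb.2, ?_⟩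
  rw [← Nat.card_eq_of_bijective _ hb]
  exact (Finset.single_le_sum (f := fun x => Nat.card (M x)) (fun _ _ => Nat.zero_le _) hxt).trans (Nat.le_succ _)

theorem lc_const {T : Scheme.{u}} (M : Type) [AddCommGroup M] [Finite M] :
    LC (fun M : AddCommGrpCat.{u + 1} => Finite M) (EtCoh.const T M) := fun x =>
  ⟨EtCoh.top T, x, AddCommGrpCat.of (ULift.{u + 1} M), cstUnit T _, rfl,
    inferInstanceAs (Finite (ULift.{u + 1} M)), isCst_cstUnit _⟩

theorem lc_pull {T E : Scheme.{u}} (π : E ⟶ T) {L : EtCoh.Ab T}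
    (hL : LC (fun M : AddCommGrpCat.{u + 1} => Finite M) L) :
    LC (fun M : AddCommGrpCat.{u + 1} => Finite M) ((EtCoh.pull π).obj L) := LC.pull hL

variable {X : Scheme.{u}} [IsNoetherian X] (p : ℕ) [hp : Fact p.Prime] {d : ℕ}

/-- Direct images with proper support of `ℤ/p` along quasi-finite morphisms vanish above degree `d`. -/
def BaseVan (X : Scheme.{u}) (p : ℕ) (d : ℕ) : Prop :=
  ∀ {T : Scheme.{u}} (g : T ⟶ X) [LocallyOfFiniteType g] [IsSeparated g] [LocallyQuasiFinite g] [QuasiCompact g],
    Van d ((preF g).obj (EtCoh.const T (ZMod p)))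

variable (hbase : BaseVan X p d)

include hbase in
theorem van_preF_lc : ∀ (N : ℕ) {T : Scheme.{u}} (g : T ⟶ X) [LocallyOfFiniteType g] [IsSeparated g]
    [LocallyQuasiFinite g] [QuasiCompact g] (L : EtCoh.Ab T),
    LC (fun M : AddCommGrpCat.{u + 1} => Finite M) L → p • 𝟙 L = 0 → StkLe L N → Van d ((preF g).obj L) := by
  intro N
  induction N with
  | zero =>
    intro T g _ _ _ _ L _ _ hN
    haveI := additive_preF g
    refine van_of_isZero ((preF g).map_isZero (isZero_of_stk fun Ω _ _ ξ => ?_))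
    obtain ⟨h1, h2⟩ := hN Ω ξ
    haveI := h1
    haveI : Subsingleton ((stk (A := AddCommGrpCat.{u + 1}) ξ).obj L) := (Finite.card_le_one_iff_subsingleton).1 h2
    exact AddCommGrpCat.isZero_of_subsingleton _
  | succ N ih =>
    intro T g _ _ _ _ L hL hpL hN
    obtain ⟨E, π, hπf, hπe, v, φ, hv, hφ⟩ := exists_section_cover p L hL hpL
    haveI := hπf; haveI := hπe; haveI := hφ
    haveI := isIso_preι π
    let G := (EtCoh.pull π).obj L
    let S := ShortComplex.mk φ (cokernel.π φ) (cokernel.condition φ)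
    have hS : S.ShortExact := { exact := ShortComplex.exact_of_g_is_cokernel _ (cokernelIsCokernel φ) }
    haveI : LocallyQuasiFinite π := inferInstance
    have hC : Van d ((preF (π ≫ g)).obj (cokernel φ)) := by
      refine ih (π ≫ g) (cokernel φ) ?_ ?_ ?_
      · refine LC.cokernel φ (lc_const (ZMod p)) (lc_pull π hL) (fun M hM => @fg_Ab M hM) fun A B f _ hB => ?_
        haveI : Finite B := hB
        exact Finite.of_surjective (cokernel.π f) ((AddCommGrpCat.epi_iff_surjective _).1 inferInstance)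
      · rw [← cancel_epi (cokernel.π φ), comp_zero, Preadditive.comp_nsmul, Category.comp_id,
          ← Category.id_comp (cokernel.π φ), ← Preadditive.nsmul_comp, nsmul_pull π hpL, zero_comp]
      · intro Ω _ _ ξ
        obtain ⟨h1, h2⟩ := hN Ω (ξ ≫ π)
        haveI := h1
        let e := ((stalkPull π ξ AddCommGrpCat.{u + 1}).app L).addCommGroupIsoToAddEquiv.toEquiv
        haveI : Finite ((stk (A := AddCommGrpCat.{u + 1}) ξ).obj G) := Finite.of_equiv _ e
        let q := (stk (A := AddCommGrpCat.{u + 1}) ξ).map (cokernel.π φ)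
        have hq : Function.Surjective q := (AddCommGrpCat.epi_iff_surjective _).1 inferInstance
        haveI : Finite ((stk (A := AddCommGrpCat.{u + 1}) ξ).obj (cokernel φ)) := Finite.of_surjective _ hq
        refine ⟨inferInstance, Nat.le_of_lt_succ ?_⟩
        refine lt_of_lt_of_le ?_ (Nat.succ_le_succ (le_refl (N + 1)))
        refine lt_of_lt_of_le ?_ ((Nat.card_congr e).symm.le.trans h2)
        haveI : Finite ↑((pullA π AddCommGrpCat.{u + 1} ⋙ stk (A := AddCommGrpCat.{u + 1}) ξ).obj L) := Finite.of_equiv _ e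
        refine lt_of_le_of_ne (Nat.card_le_card_of_surjective _ hq) fun he => ?_
        have hqi := ((Nat.bijective_iff_surjective_and_card _).2 ⟨hq, he.symm⟩).1
        let A := AddCommGrpCat.of (ULift.{u + 1} (ZMod p))
        obtain ⟨c, -⟩ := exists_fib ξ (EtCoh.top E) (ξ.base default) rfl
        haveI := isCst_cstUnit (X := E) A Ω ξ c
        let γ := cstUnit E A ≫ germ ξ (EtCoh.const E (ZMod p)) (EtCoh.top E) c
        have hm := (mono_iff_stalks (A := AddCommGrpCat.{u + 1}) φ).1 hφ Ω ξ
        rw [AddCommGrpCat.mono_iff_injective] at hm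
        have h3 : γ ⟨1⟩ = 0 := hm ((hqi (by
          rw [map_zero]
          show ((stk (A := AddCommGrpCat.{u + 1}) ξ).map φ ≫ (stk (A := AddCommGrpCat.{u + 1}) ξ).map (cokernel.π φ)) _ = 0
          rw [← Functor.map_comp, cokernel.condition]
          obtain ⟨W, w, s, hs⟩ := exists_germ (A := AddCommGrpCat.{u + 1}) ξ (γ ⟨1⟩)
          rw [← hs, germ_natural_apply]
          exact map_zero _ : q _ = q 0)).trans (map_zero _).symm)
        exact one_ne_zero (congrArg ULift.down
          ((injective_iff_map_eq_zero _).1 (ConcreteCategory.bijective_of_isIso γ).1 _ h3))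
    have hA : Van d ((preF (π ≫ g)).obj (EtCoh.const E (ZMod p))) := hbase (π ≫ g)
    have hG : Van d ((preF (π ≫ g)).obj G) := Van.middle (shortExact_preF (π ≫ g) hS) hA hC
    have hG' : Van d ((preF g).obj ((EtCoh.push π).obj G)) :=
      hG.of_iso ((preCompIso π g).app G ≪≫ (preF g).mapIso ((asIso (preι π)).app G))
    exact hG'.of_retract ((preF g).map ((EtCoh.pullPushAdj π).unit.app L)) ((preF g).map v)
      (by rw [← Functor.map_comp, hv, CategoryTheory.Functor.map_id])

theorem nsmul_openPart {F : EtCoh.Ab X} (hF : p • 𝟙 F = 0) (V : X.Opens) : p • 𝟙 (openPart F V) = 0 := by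
  haveI : (EtShriek.extZero V.ι).IsLeftAdjoint := (EtShriek.extZeroAdj V.ι).isLeftAdjoint
  haveI : (EtShriek.extZero V.ι).Additive := Functor.additive_of_preserves_binary_products _
  haveI : (EtShriek.restrAlong V.ι).Additive := (EtShriek.extZeroAdj V.ι).right_adjoint_additive
  show p • 𝟙 ((EtShriek.extZero V.ι).obj ((EtShriek.restrAlong V.ι).obj F)) = 0
  rw [← CategoryTheory.Functor.map_id, ← CategoryTheory.Functor.map_id, ← Functor.map_nsmul,
    ← Functor.map_nsmul, hF, Functor.map_zero, Functor.map_zero]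

include hbase in
/-- Constructible sheaves killed by `p`. -/
theorem van_of_killed {F : EtCoh.Ab X} (hF : IsCons (A := AddCommGrpCat.{u + 1}) FinP F) (hpF : p • 𝟙 F = 0) :
    Van d F := by
  obtain ⟨n, U, hU0, hUn, hcpt, hstep⟩ := exists_chain hF
  suffices key : ∀ k, k ≤ n → Van d (openPart F (U k)) by
    obtain ⟨e⟩ := nonempty_openPart_top F
    have := key n le_rfl
    rw [hUn] at this
    exact this.of_iso e
  intro k
  induction k with
  | zero => intro _; rw [hU0]; exact van_of_isZero (isZero_openPart_bot F)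
  | succ k ih =>
    intro hk
    obtain ⟨hle, hd⟩ := hstep k (Nat.lt_of_succ_le hk)
    obtain ⟨ι, W, c, hc, G, π, hz, -, hflc, hS⟩ := exists_step hle hd
    haveI := hc
    refine Van.middle hS (ih (Nat.le_of_succ_le hk)) ?_
    show Van d ((EtShriek.extZero (U (k + 1)).ι).obj ((EtCoh.push c).obj G))
    let j := (U (k + 1)).ι
    haveI : QuasiCompact j := inferInstance
    haveI := isIso_preι c
    have hG : p • 𝟙 G = 0 := nsmul_eq_zero_of_stk fun Ω _ _ ζ P => by
      haveI := isIso_compare (A := AddCommGrpCat.{u + 1}) c ζ (refines_of_closedImmersion c ζ) G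
      obtain ⟨Q, rfl⟩ := (ConcreteCategory.bijective_of_isIso (compare c ζ G)).2 P
      haveI := isIso_inclStalk j ((EtCoh.push c).obj G) ((ζ ≫ c) ≫ j) ⟨ζ ≫ c, rfl⟩
      have h3 : p • 𝟙 ((EtShriek.extZero j).obj ((EtCoh.push c).obj G)) = 0 := by
        haveI : Epi π := hS.epi_g
        rw [← cancel_epi π, comp_zero, Preadditive.comp_nsmul, Category.comp_id, ← Category.id_comp π,
          ← Preadditive.nsmul_comp, nsmul_openPart p hpF, zero_comp]
      have h4 : p • Q = 0 := (ConcreteCategory.bijective_of_isIso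
        (inclStalk j ((EtCoh.push c).obj G) ((ζ ≫ c) ≫ j) ⟨ζ ≫ c, rfl⟩)).1
          ((map_nsmul _ p Q).trans ((stk_nsmul_eq_zero h3 _ _).trans (map_zero _).symm))
      rw [← map_nsmul, h4, map_zero]
    haveI : CompactSpace W := by
      haveI : CompactSpace (U (k + 1)).toScheme := isCompact_iff_compactSpace.1 (hcpt (k + 1))
      exact QuasiCompact.compactSpace_of_compactSpace c
    obtain ⟨N, hN⟩ := exists_stkLe ((isFLC_iff G).1 hflc)
    exact (van_preF_lc p hbase N (c ≫ j) G ((isFLC_iff G).1 hflc) hG hN).of_iso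
      ((preCompIso c j).app G ≪≫ (preF j).mapIso ((asIso (preι c)).app G) ≪≫ ((extZeroPreIso j).app _).symm)

include hbase in
/-- Constructible sheaves killed by a power of `p`. -/
theorem van_of_pow : ∀ (m : ℕ) {F : EtCoh.Ab X}, IsCons (A := AddCommGrpCat.{u + 1}) FinP F →
    p ^ m • 𝟙 F = 0 → Van d F := by
  intro m
  induction m with
  | zero =>
    intro F _ hF
    exact van_of_isZero ((IsZero.iff_id_eq_zero F).2 (by rwa [pow_zero, one_smul] at hF))
  | succ m ih =>
    intro F hF hFm
    let K := kernel (p • 𝟙 F)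
    let S := ShortComplex.mk (kernel.ι (p • 𝟙 F)) (cokernel.π (kernel.ι (p • 𝟙 F))) (cokernel.condition _)
    have hS : S.ShortExact := { exact := ShortComplex.exact_of_g_is_cokernel _ (cokernelIsCokernel _) }
    have hK : IsCons (A := AddCommGrpCat.{u + 1}) FinP K := EtShLib.cons_kernel _ hF hF
    refine Van.middle hS (van_of_killed p hbase hK ?_) (ih (EtShLib.cons_cokernel _ hK hF) ?_)
    · rw [← cancel_mono (kernel.ι (p • 𝟙 F)), zero_comp, Preadditive.nsmul_comp, Category.id_comp]
      have h1 := kernel.condition (p • 𝟙 F)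
      rwa [Preadditive.comp_nsmul, Category.comp_id] at h1
    · rw [← cancel_epi (cokernel.π (kernel.ι (p • 𝟙 F))), comp_zero, Preadditive.comp_nsmul, Category.comp_id]
      obtain ⟨l, hl⟩ : ∃ l : F ⟶ K, l ≫ kernel.ι (p • 𝟙 F) = p ^ m • 𝟙 F :=
        ⟨kernel.lift _ _ (by
          rw [Preadditive.nsmul_comp, Category.id_comp, smul_smul, ← pow_succ, hFm]), kernel.lift_ι _ _ _⟩
      rw [← Category.id_comp (cokernel.π _), ← Preadditive.nsmul_comp, ← hl, Category.assoc,
        cokernel.condition, comp_zero]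

end CdCharPLib

end
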