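import Groth.Agent.EtZarLib.Assoc
import Groth.Agent.EtZarLib.Nat
import Groth.Agent.EtZarLib.Ga
import Groth.Agent.QCohLib.QCoh
import Groth.Agent.QCohLib.Push
import Groth.Agent.EtShLib.ArtinSchreier
import Mathlib.AlgebraicGeometry.Morphisms.Flat
import Mathlib.RingTheory.TensorProduct.Quotient

/-!
# The kernel of restricting functions to a closed subscheme, on the étale site
-/

set_option autoImplicit false
set_option linter.unusedSectionVars false
set_option linter.style.haveILetI false
set_option backward.isDefEq.respectTransparency false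
set_option backward.isDefEq.respectTransparency.types false
set_option synthInstance.maxHeartbeats 400000
set_option maxHeartbeats 1000000

universe u

open CategoryTheory CategoryTheory.Limits CategoryTheory.Abelian AlgebraicGeometry Opposite TopologicalSpace TensorProduct
open Groth.Agent Groth.Agent.EtShLib Groth.Agent.EtShLib.GaAux

noncomputable section

namespace CdCharPLib

variable {X Y : Scheme.{u}} (i : Y ⟶ X)

/-- The pullback of functions to the base change of `Y`. -/
abbrev resY (U : X.Etale) : Γ(U.left, ⊤) →+* Γ(((EtCoh.bc i).obj U).left, ⊤) :=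
  (pullback.fst U.hom i).appTop.hom

theorem resY_res {U V : X.Etale} (g : V ⟶ U) (x : Γ(U.left, ⊤)) :
    res ((EtCoh.bc i).map g) (resY i U x) = resY i V (res g x) := by
  have h := congrArg Scheme.Hom.appTop (EtCoh.isPullback_bc_map i g).w
  simp only [Scheme.Hom.comp_appTop] at h
  exact congrArg (fun m => m.hom x) h

/-- Restriction of functions to a subscheme, as a map of étale sheaves. -/
def resGa : EtCoh.Ga X ⟶ (EtCoh.push i).obj (EtCoh.Ga Y) :=
  ⟨{ app := fun U => AddCommGrpCat.ofHom
        (X := (EtCoh.Ga X).obj.obj U) (Y := ((EtCoh.push i).obj (EtCoh.Ga Y)).obj.obj U)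
        (AddMonoidHom.mk' (fun x => ULift.up (resY i U.unop x.down))
          fun a b => ULift.ext _ _ (map_add _ _ _))
     naturality := fun U V g => ConcreteCategory.hom_ext _ _ fun x =>
       ULift.ext _ _ (resY_res i g.unop x.down).symm }⟩

theorem resGa_app (U : X.Etale) (x : ToType ((EtCoh.Ga X).obj.obj (op U))) :
    ((resGa i).hom.app (op U) x).down = resY i U x.down := rfl

theorem resGa_as (p : ℕ) (hp : p.Prime) (h0 : (p : Γ(X, ⊤)) = 0) (h0' : (p : Γ(Y, ⊤)) = 0) :
    W4c5etcohweilstudent.artinSchreierEndo X p hp h0 ≫ resGa i =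
      resGa i ≫ (EtCoh.push i).map (W4c5etcohweilstudent.artinSchreierEndo Y p hp h0') :=
  Sheaf.hom_ext (NatTrans.ext (funext fun U => ConcreteCategory.hom_ext _ _ fun x => ULift.ext _ _
    (W4c5etcohweilstudent.ringHom_comp_asHom (resY i U.unop) p hp
      (W4c5etcohweilstudent.natCast_eq_zero_etale p h0 U.unop)
      (W4c5etcohweilstudent.natCast_eq_zero_etale p h0' ((EtCoh.bc i).obj U.unop)) x.down)))

variable [IsClosedImmersion i]

theorem surjective_resY (U : X.Etale) [IsAffine U.left] : Function.Surjective (resY i U) := by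
  haveI : IsAffine ((𝟭 Scheme.{u}).obj U.left) := ‹IsAffine U.left›
  haveI : IsClosedImmersion (pullback.fst U.hom i) := inferInstance
  exact (IsClosedImmersion.isAffine_surjective_of_isAffine (f := pullback.fst U.hom i)).2

theorem epi_resGa : Epi (resGa i) := by
  suffices h : Sheaf.IsLocallySurjective (resGa i) from Sheaf.epi_of_isLocallySurjective _
  refine ⟨fun {U} y => ?_⟩
  let S : Sieve U := Presheaf.imageSieve (resGa i).hom y
  haveI := U.left.affineCover
  let 𝒰 := U.left.affineCover
  let V : 𝒰.I₀ → X.Etale := fun j => haveI : AlgebraicGeometry.Etale U.hom := U.prop; Scheme.Etale.mk (𝒰.f j ≫ U.hom)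
  let g : ∀ j, V j ⟶ U := fun j => MorphismProperty.Over.homMk (𝒰.f j) rfl
  refine GrothendieckTopology.superset_covering X.smallEtaleTopology
    (S := Sieve.ofArrows V g) ((Sieve.generate_le_iff _ _).2 ?_) ?_
  · rintro W _ ⟨j⟩
    haveI : IsAffine (V j).left := inferInstanceAs (IsAffine (𝒰.X j))
    obtain ⟨t, ht⟩ := surjective_resY i (V j) (res ((EtCoh.bc i).map (g j)) y.down)
    exact ⟨ULift.up t, ULift.ext _ _ ht⟩
  · rw [Scheme.ofArrows_mem_smallEtaleTopology_iff]
    refine Set.eq_univ_of_forall fun z => Set.mem_iUnion.2 ?_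
    obtain ⟨j, x, hx⟩ := 𝒰.exists_eq z
    exact ⟨j, x, hx⟩

/-- The sections of the kernel. -/
abbrev idl (U : X.Etale) : Ideal Γ(U.left, ⊤) := RingHom.ker (resY i U)

theorem res_mem_idl {U U' : X.Etale} (g : U' ⟶ U) {a : Γ(U.left, ⊤)} (h : a ∈ idl i U) :
    res g a ∈ idl i U' := by
  rw [RingHom.mem_ker, ← resY_res, RingHom.mem_ker.1 h, map_zero]

theorem idl_map_eq {U U' : X.Etale} [IsAffine U.left] [IsAffine U'.left] (g : U' ⟶ U) :
    (idl i U).map (res g) = idl i U' := by
  refine le_antisymm (Ideal.map_le_iff_le_comap.2 fun x hx => res_mem_idl i g hx) fun x hx => ?_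
  haveI : IsAffine ((𝟭 Scheme.{u}).obj U.left) := ‹IsAffine U.left›
  haveI : IsAffine ((𝟭 Scheme.{u}).obj U'.left) := ‹IsAffine U'.left›
  haveI : IsAffine ((EtCoh.bc i).obj U).left :=
    (IsClosedImmersion.isAffine_surjective_of_isAffine (f := pullback.fst U.hom i)).1
  have hpo := AlgebraicGeometry.isPushout_appTop_of_isPullback (EtCoh.isPullback_bc_map i g)
  let J := (idl i U).map (res g)
  let k : Γ(U'.left, ⊤) ⟶ CommRingCat.of (Γ(U'.left, ⊤) ⧸ J) := CommRingCat.ofHom (Ideal.Quotient.mk J)
  let h : Γ(((EtCoh.bc i).obj U).left, ⊤) ⟶ CommRingCat.of (Γ(U'.left, ⊤) ⧸ J) :=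
    CommRingCat.ofHom (RingHom.liftOfSurjective (resY i U) (surjective_resY i U)
      ⟨(Ideal.Quotient.mk J).comp (res g), fun a ha => by
        rw [RingHom.mem_ker, RingHom.comp_apply, Ideal.Quotient.eq_zero_iff_mem]
        exact Ideal.mem_map_of_mem _ ha⟩)
  have hw : (pullback.fst U.hom i).appTop ≫ h = g.left.appTop ≫ k := CommRingCat.hom_ext (RingHom.ext fun a => by
    simp only [h, k, CommRingCat.hom_comp, CommRingCat.hom_ofHom, RingHom.comp_apply]
    exact RingHom.liftOfRightInverse_comp_apply _ _ _ _ a)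
  have h1 : k.hom x = (hpo.desc h k hw).hom (resY i U' x) :=
    (congrArg (fun m => m.hom x) (hpo.inr_desc h k hw)).symm
  refine Ideal.Quotient.eq_zero_iff_mem.1 (h1.trans ?_)
  rw [RingHom.mem_ker.1 hx, map_zero]

/-- The kernel ideals as modules. -/
def idlMods : EtZarLib.Mods X where
  A U := ↥(idl i U)
  r g := AddMonoidHom.mk' (fun a => ⟨res g a.1, res_mem_idl i g a.2⟩) fun a b => Subtype.ext (map_add _ _ _)
  r_smul g a m := Subtype.ext (map_mul (res g) a m.1)
  r_r g h m := Subtype.ext (res_comp h g m.1)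
  r_id m := Subtype.ext (res_id m.1)
  isBC := by
    intro U U' _ _ g _ _ _ hg ψ hψ
    haveI := etale_left g
    have hF : (res g).Flat := HasRingHomProperty.appTop @AlgebraicGeometry.Flat g.left inferInstance
    haveI : Module.Flat Γ(U.left, ⊤) Γ(U'.left, ⊤) := by
      have he : algebraMap Γ(U.left, ⊤) Γ(U'.left, ⊤) = res g := RingHom.ext hg
      rw [← RingHom.flat_algebraMap_iff, he]
      exact hF
    let φ := ψ.liftBaseChange Γ(U'.left, ⊤)
    have hval : ∀ z, (φ z).1 = AlgebraTensorModule.rid Γ(U.left, ⊤) Γ(U'.left, ⊤) Γ(U'.left, ⊤)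
        ((idl i U).subtype.lTensor Γ(U'.left, ⊤) z) := fun z => by
      induction z using TensorProduct.induction_on with
      | zero => simp only [map_zero]; rfl
      | add z₁ z₂ h₁ h₂ => simp only [map_add, ← h₁, ← h₂]; rfl
      | tmul b a =>
        rw [LinearMap.liftBaseChange_tmul, LinearMap.lTensor_tmul, AlgebraTensorModule.rid_tmul, Algebra.smul_def, hg]
        show b * (ψ a).1 = res g a.1 * b
        rw [show (ψ a).1 = res g a.1 from congrArg Subtype.val (hψ a), mul_comm]
    have hinj : Function.Injective φ := fun a b hab =>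
      Module.Flat.lTensor_preserves_injective_linearMap _ (idl i U).injective_subtype
        ((AlgebraTensorModule.rid Γ(U.left, ⊤) Γ(U'.left, ⊤) Γ(U'.left, ⊤)).injective
          (by rw [← hval, ← hval, hab]))
    have hsurj : Function.Surjective φ := by
      rintro ⟨y, hy⟩
      have hy' : y ∈ (idl i U).map (res g) := by rwa [idl_map_eq]
      suffices h : ∀ y ∈ (idl i U).map (res g), ∃ z, (φ z).1 = y by
        obtain ⟨z, hz⟩ := h y hy'
        exact ⟨z, Subtype.ext hz⟩
      intro y hy
      induction hy using Submodule.span_induction with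
      | mem y h =>
        obtain ⟨a, ha, rfl⟩ := h
        exact ⟨1 ⊗ₜ ⟨a, ha⟩, by rw [LinearMap.liftBaseChange_one_tmul]; exact congrArg Subtype.val (hψ _)⟩
      | zero => exact ⟨0, by rw [map_zero]; rfl⟩
      | add a b _ _ ha hb =>
        obtain ⟨za, rfl⟩ := ha; obtain ⟨zb, rfl⟩ := hb
        exact ⟨za + zb, by rw [map_add]; rfl⟩
      | smul c a _ ha =>
        obtain ⟨za, rfl⟩ := ha
        exact ⟨c • za, by rw [map_smul]; rfl⟩
    exact IsBaseChange.of_equiv (LinearEquiv.ofBijective φ ⟨hinj, hsurj⟩) fun x =>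
      show φ (1 ⊗ₜ x) = ψ x from LinearMap.liftBaseChange_one_tmul (A := Γ(U'.left, ⊤)) ψ x

theorem injective_kernel_ι {F G : EtCoh.Ab X} (φ : F ⟶ G) (U : X.Etale) :
    Function.Injective ((kernel.ι φ).hom.app (op U)) := by
  haveI : PreservesFiniteLimits (sheafToPresheaf X.smallEtaleTopology AddCommGrpCat.{u + 1}) := inferInstance
  haveI : Mono ((sheafToPresheaf X.smallEtaleTopology AddCommGrpCat.{u + 1} ⋙ (evaluation _ _).obj (op U)).map
      (kernel.ι φ)) := inferInstance
  exact (AddCommGrpCat.mono_iff_injective _).1 this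

theorem exists_lift_kernel {F G : EtCoh.Ab X} (φ : F ⟶ G) (U : X.Etale) (t : ToType (F.obj.obj (op U))) :
    (∃ s, (kernel.ι φ).hom.app (op U) s = t) ↔ φ.hom.app (op U) t = 0 := by
  refine ⟨?_, fun h => ?_⟩
  · rintro ⟨s, rfl⟩
    exact congrArg (fun k : kernel φ ⟶ G => k.hom.app (op U) s) (kernel.condition φ)
  · let E := sheafToPresheaf X.smallEtaleTopology AddCommGrpCat.{u + 1} ⋙ (evaluation _ _).obj (op U)
    haveI : E.Additive := { }
    haveI : PreservesFiniteLimits E := inferInstance
    let S := ShortComplex.mk (kernel.ι φ) φ (kernel.condition φ)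
    have hS : S.Exact := ShortComplex.exact_of_f_is_kernel _ (kernelIsKernel φ)
    haveI : Mono S.f := inferInstanceAs (Mono (kernel.ι φ))
    exact (ShortComplex.ab_exact_iff (S.map E)).1 (hS.map_of_mono_of_preservesKernel E ‹_› inferInstance) t h

theorem cechAcyclicA_kernel : CechAcyclicA (kernel (resGa i)) :=
  EtZarLib.cechAcyclicA_of_mods (idlMods i)
    (fun U => AddMonoidHom.mk'
      (fun s => (⟨((kernel.ι (resGa i)).hom.app (op U) s).down, congrArg ULift.down
        ((exists_lift_kernel (resGa i) U _).1 ⟨s, rfl⟩)⟩ : idl i U))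
      fun a b => Subtype.ext (congrArg ULift.down (map_add ((kernel.ι (resGa i)).hom.app (op U)).hom a b)))
    (fun U => ⟨fun a b h => injective_kernel_ι _ U (ULift.ext _ _ (congrArg Subtype.val h)), fun a => by
      obtain ⟨s, hs⟩ := (exists_lift_kernel (resGa i) U (ULift.up a.1)).2 (ULift.ext _ _ a.2)
      exact ⟨s, Subtype.ext (congrArg ULift.down hs)⟩⟩)
    (fun g t => Subtype.ext (congrArg ULift.down (NatTrans.naturality_apply (kernel.ι (resGa i)).hom g.op t)))

theorem resY_zarToEt_eq_zero_iff (U : X.Opens) (t : Γ(U.toScheme, ⊤)) :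
    resY i ((EtZar.zarToEt X).obj U) t = 0 ↔ (i.app U).hom (U.topIso.hom.hom t) = 0 := by
  let W := (EtZar.zarToEt X).obj U
  let e := (isPullback_morphismRestrict i U).isoPullback
  have he : e.hom ≫ pullback.fst W.hom i = i ∣_ U := IsPullback.isoPullback_hom_fst _
  have h1 : (i ∣_ U).appTop.hom t = e.hom.appTop.hom (resY i W t) := by
    rw [← he, Scheme.Hom.comp_appTop]
    rfl
  have hinj : Function.Injective e.hom.appTop.hom :=
    (ConcreteCategory.bijective_of_isIso (C := CommRingCat.{u}) e.hom.appTop).1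
  rw [← map_eq_zero_iff _ hinj, ← h1, morphismRestrict_appTop, Scheme.Opens.topIso_hom]
  have h2 := congrArg (fun m => m.hom t) (i.naturality (eqToHom U.ι_image_top.symm).op)
  simp only [CommRingCat.hom_comp, RingHom.comp_apply] at h2 ⊢
  erw [h2]
  exact ((map_eq_zero_iff _ (ConcreteCategory.bijective_of_isIso (C := CommRingCat.{u}) _).1).trans
    (map_eq_zero_iff _ (ConcreteCategory.bijective_of_isIso (C := CommRingCat.{u}) _).1).symm)

/-- The kernel has no cohomology where quasi-coherent modules have none. -/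
theorem subsingleton_H_kernel (q : ℕ)
    (hqc : ∀ M : X.Modules, Coh.IsQCoh M → Subsingleton (Coh.HH X M q)) :
    Subsingleton (EtCoh.H X (kernel (resGa i)) q) := by
  haveI : EtZar.ZarCont X := EtZarLib.zarCont X
  haveI : (EtZar.resZar X).Additive := { }
  haveI := EtZarLib.preservesFiniteLimits_resZar (X := X)
  haveI := EtZarLib.preservesFiniteLimits_up (X := X)
  haveI : (EtZarLib.up X).Additive := Functor.additive_of_preserves_binary_products _
  obtain ⟨e⟩ := EtZarLib.nonempty_H_equiv (X := X) q _ (cechAcyclicA_kernel i)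
  let η := ClSub.unitToPush i
  let M : X.Modules := kernel η
  haveI : Coh.IsQCoh (Coh.structureModule X) := QCohLib.isQCoh_unit
  haveI : Coh.IsQCoh (Coh.structureModule Y) := QCohLib.isQCoh_unit
  haveI : Coh.IsQCoh ((Scheme.Modules.pushforward i).obj (Coh.structureModule Y)) :=
    QCohLib.isQCoh_pushforward i _
  haveI := hqc M (QCohLib.isQCoh_kernel η)
  obtain ⟨e'⟩ := EtZarLib.nonempty_up_equiv (X := X) q (Coh.toAb M)
  let R := EtZar.resZar X
  let T := SheafOfModules.toSheaf X.ringCatSheaf
  let γ := EtZarLib.gaIso X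
  let a : R.obj (kernel (resGa i)) ⟶ (EtZarLib.up X).obj (Coh.toAb (Coh.structureModule X)) :=
    R.map (kernel.ι (resGa i)) ≫ γ.hom
  let b : (EtZarLib.up X).obj (Coh.toAb M) ⟶ (EtZarLib.up X).obj (Coh.toAb (Coh.structureModule X)) :=
    (EtZarLib.up X).map (T.map (kernel.ι η))
  have ha : a ≫ (EtZarLib.up X).map (T.map η) = 0 :=
    Sheaf.hom_ext (NatTrans.ext (funext fun U => ConcreteCategory.hom_ext _ _ fun s => ULift.ext _ _
      ((resY_zarToEt_eq_zero_iff i U.unop _).1 (congrArg ULift.down
        ((exists_lift_kernel (resGa i) ((EtZar.zarToEt X).obj U.unop) _).1 ⟨s, rfl⟩)))))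
  have hb : (b ≫ γ.inv) ≫ R.map (resGa i) = 0 :=
    Sheaf.hom_ext (NatTrans.ext (funext fun U => ConcreteCategory.hom_ext _ _ fun s => by
      refine ULift.ext _ _ ((resY_zarToEt_eq_zero_iff i U.unop _).2 ?_)
      have h := congrArg (fun k : Coh.toAb M ⟶ _ => k.hom.app U s.down)
        (show T.map (kernel.ι η) ≫ T.map η = 0 by rw [← Functor.map_comp, kernel.condition, Functor.map_zero])
      refine Eq.trans ?_ h
      exact congrArg (i.app U.unop).hom
        (congrArg ULift.down (ConcreteCategory.congr_hom (EtZarLib.gaIsoApp X U.unop).inv_hom_id _))))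
  haveI : Mono b := inferInstance
  haveI : Mono a := inferInstance
  have hkb : IsLimit (KernelFork.ofι b (f := (EtZarLib.up X).map (T.map η))
      (by rw [← Functor.map_comp, ← Functor.map_comp, kernel.condition, Functor.map_zero, Functor.map_zero])) :=
    (isLimitMapConeForkEquiv' (T ⋙ EtZarLib.up X) (kernel.condition η)).toFun
      (isLimitOfPreserves (T ⋙ EtZarLib.up X) (kernelIsKernel η))
  have hka : IsLimit (KernelFork.ofι (R.map (kernel.ι (resGa i))) (f := R.map (resGa i))
      (by rw [← Functor.map_comp, kernel.condition, Functor.map_zero])) :=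
    (isLimitMapConeForkEquiv' R (kernel.condition (resGa i))).toFun
      (isLimitOfPreserves R (kernelIsKernel (resGa i)))
  obtain ⟨f, hf⟩ := KernelFork.IsLimit.lift' hkb a ha
  obtain ⟨g, hg⟩ := KernelFork.IsLimit.lift' hka (b ≫ γ.inv) hb
  have hf' : f ≫ b = a := hf
  have hg' : g ≫ a = b := by
    have : g ≫ R.map (kernel.ι (resGa i)) = b ≫ γ.inv := hg
    show g ≫ R.map (kernel.ι (resGa i)) ≫ γ.hom = b
    rw [← Category.assoc, this, Category.assoc, γ.inv_hom_id, Category.comp_id]
  let ψ : R.obj (kernel (resGa i)) ≅ (EtZarLib.up X).obj (Coh.toAb M) :=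
    ⟨f, g, (cancel_mono a).1 (by rw [Category.assoc, hg', hf', Category.id_comp]),
      (cancel_mono b).1 (by rw [Category.assoc, hf', hg', Category.id_comp])⟩
  haveI : Subsingleton (EtZar.H ((EtZarLib.up X).obj (Coh.toAb M)) q) :=
    @Equiv.subsingleton _ _ e'.symm.toEquiv (hqc M (QCohLib.isQCoh_kernel η))
  haveI : Subsingleton (EtZar.H (R.obj (kernel (resGa i))) q) :=
    Function.Injective.subsingleton (f := Sheaf.H.map ψ.hom q) fun x y h => by
      have := congrArg (Sheaf.H.map ψ.inv q) h
      rwa [← Sheaf.H.map_comp_apply, ← Sheaf.H.map_comp_apply, ψ.hom_inv_id, Sheaf.H.map_id_apply,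
        Sheaf.H.map_id_apply] at this
  exact e.toEquiv.subsingleton

end CdCharPLib

end
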