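import Groth.Agent.CdCharPLib.Dev
import Groth.Agent.CovDevLib.Devissage
import Groth.Prelude.Def_Dix

/-!
# `cd_p ≤ cd_qc + 1` in characteristic `p`
-/

set_option autoImplicit false
set_option linter.unusedSectionVars false
set_option linter.style.haveILetI false
set_option backward.isDefEq.respectTransparency false
set_option backward.isDefEq.respectTransparency.types false
set_option synthInstance.maxHeartbeats 400000
set_option maxHeartbeats 1000000

universe u

open CategoryTheory CategoryTheory.Limits CategoryTheory.Abelian AlgebraicGeometry Opposite TopologicalSpace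
open Groth.Agent Groth.Agent.EtShLib

noncomputable section

namespace CdCharPLib

variable {X : Scheme.{u}}

theorem exists_pow_nsmul_stk {p : ℕ} {F : EtCoh.Ab X} (hF : Dix.IsPrimaryTorsion p F) {Ω : Type u} [Field Ω]
    [IsSepClosed Ω] (ξ : Spec (CommRingCat.of Ω) ⟶ X) (P : ToType ((stk (A := AddCommGrpCat.{u + 1}) ξ).obj F)) :
    ∃ k : ℕ, p ^ k • P = 0 := by
  obtain ⟨U, u, s, rfl⟩ := exists_germ ξ P
  obtain ⟨V, g, ⟨y, hy⟩, k, hk⟩ := hF U s u.pt
  haveI := etale_left g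
  obtain ⟨l, hl, -⟩ := Scheme.exists_fac_of_etale_of_isSepClosed g.left u.hom y hy
  let v : Fib ξ V := Fib.mk l (by
    rw [← u.w, ← hl, Category.assoc]
    exact congrArg (l ≫ ·) (MorphismProperty.Over.w g).symm)
  have hv : v.map g = u := Fib.ext ((Fib.map_hom g v).trans hl)
  exact ⟨k, by rw [← hv, ← germ_res_apply, ← map_nsmul, hk, map_zero]⟩

/-- Dévissage for all `p`-primary torsion sheaves. -/
theorem cohDimLEAt_of_base [IsNoetherian X] (p : ℕ) [hp : Fact p.Prime] (d : ℕ) (hbase : BaseVan X p d) :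
    Dix.CohDimLEAt X p d := by
  intro F hF q hq
  let ok : ℕ → Prop := fun a => ∃ k : ℕ, p ^ k = a
  have hok : CovDevLib.Moduli ok := CovDevLib.moduli_pow hp.out
  have hT : TorsionBy (fun m => 0 < m) F := fun Ω _ _ ξ P => by
    obtain ⟨k, hk⟩ := exists_pow_nsmul_stk hF ξ P
    exact ⟨p ^ k, pow_pos hp.out.pos k, hk⟩
  have hmono : ∀ m : ℕ, (∀ a, ok a → a.Coprime m) → Mono (m • 𝟙 F) := fun m hm => by
    refine (mono_iff_stalks (A := AddCommGrpCat.{u + 1}) _).2 fun Ω _ _ ξ => ?_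
    rw [AddCommGrpCat.mono_iff_injective, injective_iff_map_eq_zero]
    intro P hP
    obtain ⟨k, hk⟩ := exists_pow_nsmul_stk hF ξ P
    rw [CdOneLib.stk_map_nsmul] at hP
    exact CovDevLib.eq_zero_of_coprime hk hP (hm _ ⟨k, rfl⟩)
  haveI := isFiltered_consOver F
  obtain ⟨hc⟩ := nonempty_isColimit_consCocone F hT
  haveI := CovDevLib.preservesColimits_H (S := X) q (ConsOver F)
  refine subsingleton_of_forall_eq 0 fun x => ?_
  let EX := Abelian.extFunctorObj.{u + 1} (EtCoh.const X ℤ) q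
  obtain ⟨r, xr, hxr⟩ := Concrete.isColimit_exists_rep _ (isColimitOfPreserves EX hc) x
  have hxr' : xr.comp (Ext.mk₀ ((consCocone F).ι.app r)) (add_zero q) = x := hxr
  let G := (consDiagram F).obj r
  have hG : IsCons (A := AddCommGrpCat.{u + 1}) FinP G := PresOver.isCons (F := F) r
  let g : G ⟶ F := (consCocone F).ι.app r
  obtain ⟨N, hN, hNG⟩ := ConsEffaceLib.exists_nsmul_eq_zero hG
  obtain ⟨a, m, ha, hdvd, hcop⟩ := hok.split N hN
  haveI := hmono m hcop
  have hag : a • g = 0 := (cancel_mono (m • 𝟙 F)).1 (by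
    rw [zero_comp, Preadditive.comp_nsmul, Category.comp_id, smul_smul, mul_comm m a]
    exact CovDevLib.nsmul_eq_zero_of_dvd (CovDevLib.nsmul_hom_left hNG g) hdvd)
  obtain ⟨K, ι, t, -, ⟨hKc, b, ⟨k, hk⟩, hKb⟩, -, hout⟩ := CovDevLib.exists_part hok hG hok.one
  have hg : t ≫ ι ≫ g = g := hout F g a ha hag
  have hz := (van_of_pow p hbase k hKc (hk ▸ hKb) q hq).elim
    (Ext.comp xr (Ext.mk₀ t) (add_zero q) : EtCoh.H X K q) 0
  rw [← hxr']
  show Ext.comp xr (Ext.mk₀ g) (add_zero q) = 0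
  rw [← hg, ← Ext.mk₀_comp_mk₀, ← Ext.comp_assoc_of_second_deg_zero]
  exact (congrArg (fun z => Ext.comp z (Ext.mk₀ (ι ≫ g)) (add_zero q)) hz).trans (Ext.zero_comp _ _ _ _ _)

/-- `cd_p ≤ cd_qc + 1`. -/
theorem cohDimLEAt [IsNoetherian X] (p : ℕ) [hp : Fact p.Prime] (h0 : (p : Γ(X, ⊤)) = 0) (d : ℕ)
    (h : QcVan X d) : Dix.CohDimLEAt X p (d + 1) :=
  cohDimLEAt_of_base p (d + 1) fun g _ _ _ _ => van_preF_const p h0 h g

theorem natCast_zmod_zero (p : ℕ) (a : X ⟶ Spec (CommRingCat.of (ULift.{u} (ZMod p)))) :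
    (p : Γ(X, ⊤)) = 0 := by
  refine natCast_eq_zero_of_hom a p ?_
  rw [← map_natCast (Scheme.ΓSpecIso (CommRingCat.of (ULift.{u} (ZMod p)))).inv.hom p,
    show (p : ULift.{u} (ZMod p)) = 0 from ULift.ext _ _ (ZMod.natCast_self p), map_zero]

end CdCharPLib

end
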