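import Groth.Agent.CdCharPLib.Main
import Groth.Agent.AsCohLib.Main
import Groth.Agent.S0357
import Groth.Agent.S0469
import Mathlib.AlgebraicGeometry.Morphisms.QuasiFinite
import Mathlib.AlgebraicGeometry.Properties
import Mathlib.Topology.NoetherianSpace

/-!
# `cd_p ≤ dim` over a separably closed field of characteristic `p`
-/

set_option autoImplicit false
set_option linter.unusedSectionVars false
set_option linter.style.haveILetI false
set_option backward.isDefEq.respectTransparency false
set_option backward.isDefEq.respectTransparency.types false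
set_option synthInstance.maxHeartbeats 400000
set_option maxHeartbeats 1000000

universe u

open CategoryTheory CategoryTheory.Limits CategoryTheory.Abelian AlgebraicGeometry Opposite TopologicalSpace Topology
open Groth.Agent Groth.Agent.EtShLib

noncomputable section

namespace CdCharPLib

attribute [local instance] specializationOrder in
theorem topDim_le_of_quasiFinite {X Y : Scheme.{u}} (f : X ⟶ Y) [LocallyQuasiFinite f] :
    topologicalKrullDim ↥X ≤ topologicalKrullDim ↥Y := by
  rw [topologicalKrullDim, topologicalKrullDim, Order.krullDim_eq_of_orderIso irreducibleSetEquivPoints,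
    Order.krullDim_eq_of_orderIso (irreducibleSetEquivPoints (α := ↥Y))]
  refine Order.krullDim_le_of_strictMono (fun x => f x) fun a b hab => ?_
  refine lt_of_le_of_ne (show f b ⤳ f a from (show b ⤳ a from hab.le).map f.continuous) fun e => hab.ne ?_
  haveI := (Scheme.Hom.isDiscrete_preimage_singleton f (f a)).to_subtype
  let a' : ↥(f ⁻¹' {f a}) := ⟨a, rfl⟩
  let b' : ↥(f ⁻¹' {f a}) := ⟨b, e.symm⟩
  have : b' ⤳ a' := (subtype_specializes_iff b' a').2 hab.le
  exact (congrArg Subtype.val this.eq).symm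

/-- The constant sheaf along a surjective closed immersion. -/
theorem nonempty_const_push_iso_of_surjective {A B : Scheme.{u}} (e : A ⟶ B) [IsClosedImmersion e] [Surjective e]
    (M : Type) [AddCommGroup M] :
    Nonempty ((EtCoh.push e).obj (EtCoh.const A M) ≅ EtCoh.const B M) := by
  haveI : IsIso ((EtCoh.pullPushAdj e).unit.app (EtCoh.const B M)) :=
    isIso_of_stalks (A := AddCommGrpCat.{u + 1}) _ fun Ω _ _ ξ => by
      obtain ⟨ζ, rfl⟩ := exists_factor e ξ (by rw [e.surjective.range_eq]; trivial)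
      exact isIso_unit_stalk_closed e _ ζ
  exact ⟨(EtCoh.push e).mapIso (EtCore.pullConst e M).symm ≪≫
    (asIso ((EtCoh.pullPushAdj e).unit.app (EtCoh.const B M))).symm⟩

theorem le_of_lt_succ' {a : WithBot ℕ∞} {m : ℕ} (h : a < ((m + 1 : ℕ) : WithBot ℕ∞)) : a ≤ (m : WithBot ℕ∞) := by
  induction a using WithBot.recBotCoe with
  | bot => exact bot_le
  | coe a =>
    induction a using ENat.recTopCoe with
    | top => exact absurd h (not_lt.2 (WithBot.coe_le_coe.2 le_top))
    | coe a =>
      have h' : a < m + 1 := by exact_mod_cast h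
      exact_mod_cast Nat.lt_succ_iff.1 h'

theorem isZero_of_isEmpty {Z : Scheme.{u}} [IsEmpty Z] (G : EtCoh.Ab Z) : IsZero G :=
  isZero_of_stk fun _ _ _ ξ => (IsEmpty.false (ξ.base default)).elim

variable {k : Type u} [Field k] [IsSepClosed k] (p : ℕ) [hp : Fact p.Prime] [CharP k p]

theorem natCast_zero {Z : Scheme.{u}} (f : Z ⟶ Spec (CommRingCat.of k)) : (p : Γ(Z, ⊤)) = 0 :=
  natCast_eq_zero_of_hom f p (by
    rw [← map_natCast (Scheme.ΓSpecIso (CommRingCat.of k)).inv.hom p, CharP.cast_eq_zero, map_zero])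

/-- An integral scheme of dimension at most `n` has no `ℤ/p`-cohomology above degree `n`. -/
theorem van_const_integral {Z : Scheme.{u}} [IsIntegral Z] (f : Z ⟶ Spec (CommRingCat.of k)) [IsSeparated f]
    [LocallyOfFiniteType f] [QuasiCompact f] (n : ℕ) (hn : topologicalKrullDim Z ≤ n) :
    Van n (EtCoh.const Z (ZMod p)) := by
  have h0 := natCast_zero p f
  haveI : EtZar.ZarCont Z := EtZarLib.zarCont Z
  haveI : CompactSpace Z := QuasiCompact.compactSpace_of_compactSpace f
  haveI : QuasiSeparatedSpace Z := quasiSeparatedSpace_of_quasiSeparated f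
  haveI : SpectralSpace (Z : Type u) := { }
  haveI : SpectralSpace Z.toTopCat := ‹SpectralSpace (Z : Type u)›
  have hqc : QcVan Z n := fun M _ q hq => Groth.Agent.S0469.result (X := Z.toTopCat) n hn (Coh.toAb M) q hq
  intro q hq
  by_cases hq' : n + 1 < q
  · exact subsingleton_const p h0 hqc q hq'
  obtain rfl : q = n + 1 := by omega
  have hsurj : ∀ y : EtCoh.H Z (EtCoh.Ga Z) n, ∃ z : EtCoh.H Z (EtCoh.Ga Z) n,
      Sheaf.H.map (W4c5etcohweilstudent.artinSchreierEndo Z p hp.out h0) n z = y := by
    by_cases hprop : IsProper f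
    · exact AsCohLib.surjective_as p h0 f n
    · suffices hO : Subsingleton (Coh.HH Z (Coh.structureModule Z) n) by
        obtain ⟨e⟩ := EtZarLib.nonempty_Ga_equiv Z n
        intro y
        exact ⟨0, (e.toEquiv.subsingleton).elim _ _⟩
      rcases hn.lt_or_eq with hlt | heq
      · obtain ⟨m, rfl⟩ : ∃ m, n = m + 1 := Nat.exists_eq_succ_of_ne_zero fun e => by
          subst e
          haveI : Nonempty (IrreducibleCloseds Z) :=
            ⟨⟨Set.univ, IrreducibleSpace.isIrreducible_univ _, isClosed_univ⟩⟩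
          exact absurd (Order.krullDim_nonneg (α := IrreducibleCloseds Z)) (not_le.2 (by exact_mod_cast hlt))
        exact Groth.Agent.S0469.result (X := Z.toTopCat) m (le_of_lt_succ' hlt)
          (Coh.toAb (Coh.structureModule Z)) (m + 1) (Nat.lt_succ_self m)
      · refine (Groth.Agent.S0357.result k Z f n heq).2 (fun W i _ _ hW hi => hprop ?_) _
          (DevissLib.isCoh_structureModule Z)
        have hr : Set.range i.base = Set.univ := by
          by_contra hne
          have h1 := PnCohLib.dim_closed_le i.isClosedEmbedding.isClosed_range hne (d := n - 1)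
          rcases Nat.eq_zero_or_pos n with rfl | hpos
          · have h5 : 0 < Order.krullDim (IrreducibleCloseds Z) := Order.krullDim_pos_iff.2
              ⟨⟨Set.range i.base, by
                rw [← Set.image_univ]
                exact (IrreducibleSpace.isIrreducible_univ _).image _ i.continuous.continuousOn,
                  i.isClosedEmbedding.isClosed_range⟩,
                ⟨Set.univ, IrreducibleSpace.isIrreducible_univ _, isClosed_univ⟩,
                lt_of_le_of_ne (fun _ _ => trivial) fun e => hne (congrArg IrreducibleCloseds.carrier e)⟩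
            exact absurd (le_of_lt h5) (fun _ => not_lt.2 (show Order.krullDim (IrreducibleCloseds Z) ≤ 0 by exact_mod_cast hn) h5)
          · have h2 : topologicalKrullDim W = topologicalKrullDim (Set.range i.base) :=
              IsHomeomorph.topologicalKrullDim_eq _ i.isClosedEmbedding.toIsEmbedding.toHomeomorph.isHomeomorph
            have h3 := h1 (by rw [Nat.sub_add_cancel hpos]; exact hn)
            rw [← h2, hW] at h3
            have h4 : n ≤ n - 1 := by exact_mod_cast h3
            omega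
        haveI : Surjective i := ⟨Set.range_eq_univ.1 hr⟩
        haveI : IsIso i := isIso_of_isClosedImmersion_of_surjective i
        rw [show f = inv i ≫ (i ≫ f) by rw [IsIso.inv_hom_id_assoc]]
        infer_instance
  obtain ⟨φ, w₀, hT⟩ := CdOneLib.kernel_artinSchreier_seq (X := Z) p h0
  have hGa : Subsingleton (EtCoh.H Z (EtCoh.Ga Z) (n + 1)) := subsingleton_Ga hqc (n + 1) (Nat.lt_succ_self n)
  refine subsingleton_of_forall_eq 0 fun (w : Ext.{u + 1} _ _ (n + 1)) => ?_
  obtain ⟨y, hy⟩ := Ext.covariant_sequence_exact₁ _ hT w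
    (hGa.elim (Ext.comp w (Ext.mk₀ φ) (add_zero (n + 1)) : EtCoh.H _ (EtCoh.Ga Z) (n + 1)) 0) (n₀ := n) rfl
  obtain ⟨z, hz⟩ := hsurj y
  rw [← hy, ← hz]
  exact (Ext.comp_assoc_of_second_deg_zero _ _ _ _).trans (by rw [hT.comp_extClass, Ext.comp_zero])

/-- A proper closed subscheme of an irreducible scheme has smaller dimension. -/
theorem dim_lt_of_closed {Z Y : Scheme.{u}} [IsIntegral Z] (i : Y ⟶ Z) [IsClosedImmersion i]
    [Nonempty Y] (hne : Set.range i.base ≠ Set.univ) (n : ℕ) (hn : topologicalKrullDim Z ≤ n) :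
    topologicalKrullDim Y < (n : WithBot ℕ∞) := by
  rw [IsHomeomorph.topologicalKrullDim_eq _ i.isClosedEmbedding.toIsEmbedding.toHomeomorph.isHomeomorph]
  rcases Nat.eq_zero_or_pos n with rfl | hpos
  · let y := i.base (Classical.arbitrary Y)
    have hy : closure ({y} : Set Z) ⊆ Set.range i.base :=
      closure_minimal (Set.singleton_subset_iff.2 ⟨_, rfl⟩) i.isClosedEmbedding.isClosed_range
    have h5 : 0 < Order.krullDim (IrreducibleCloseds Z) := Order.krullDim_pos_iff.2
      ⟨⟨closure {y}, isIrreducible_singleton.closure, isClosed_closure⟩,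
        ⟨Set.univ, IrreducibleSpace.isIrreducible_univ _, isClosed_univ⟩,
        lt_of_le_of_ne (fun _ _ => trivial) fun e => hne (Set.eq_univ_of_univ_subset
          ((congrArg IrreducibleCloseds.carrier e).symm.le.trans hy))⟩
    exact absurd h5 (not_lt.2 (show Order.krullDim (IrreducibleCloseds Z) ≤ 0 by exact_mod_cast hn))
  · obtain ⟨m, rfl⟩ := Nat.exists_eq_succ_of_ne_zero hpos.ne'
    exact lt_of_le_of_lt (PnCohLib.dim_closed_le i.isClosedEmbedding.isClosed_range hne hn)
      (by exact_mod_cast Nat.lt_succ_self m)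

/-- Constant sheaves on all schemes of dimension `< n` vanish from degree `n` on. -/
def LowVan (k : Type u) [Field k] (p n : ℕ) : Prop :=
  ∀ {Y : Scheme.{u}} (f : Y ⟶ Spec (CommRingCat.of k)) [IsSeparated f] [LocallyOfFiniteType f] [QuasiCompact f],
    topologicalKrullDim Y < (n : WithBot ℕ∞) → ∀ q : ℕ, n ≤ q → Subsingleton (EtCoh.H Y (EtCoh.const Y (ZMod p)) q)

theorem van_preF_of_iso {T R X : Scheme.{u}} (r : R ⟶ T) [IsFinite r] (g : T ⟶ X) [LocallyOfFiniteType g]
    [IsSeparated g] [LocallyQuasiFinite g] {n : ℕ} {A : EtCoh.Ab T} {B : EtCoh.Ab R} (e : (EtCoh.push r).obj B ≅ A)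
    (h : Van n ((preF (r ≫ g)).obj B)) : Van n ((preF g).obj A) := by
  haveI := isIso_preι r
  exact h.of_iso ((preCompIso r g).app B ≪≫ (preF g).mapIso ((asIso (preι r)).app B ≪≫ e))

theorem van_preF_integral {X : Scheme.{u}} [IsNoetherian X] (f : X ⟶ Spec (CommRingCat.of k)) [IsSeparated f]
    [LocallyOfFiniteType f] [QuasiCompact f] (n : ℕ) (hn : topologicalKrullDim X ≤ n) (hlow : LowVan k p n)
    {R : Scheme.{u}} [IsIntegral R] (g : R ⟶ X) [LocallyOfFiniteType g] [IsSeparated g] [LocallyQuasiFinite g]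
    [QuasiCompact g] : Van n ((preF g).obj (EtCoh.const R (ZMod p))) := by
  haveI := locallyOfFinitePresentation_of_noetherian g
  obtain ⟨Z, j, π, hj, -, hπ, -, hfac⟩ := FinSurjLib.exists_finite_factorization g
  haveI := hj; haveI := hπ
  obtain ⟨Z', c, hc, hZ', hr⟩ := exists_reduced_immersion (X := Z) (E := closure (Set.range j.base))
    isClosed_closure.isLocallyClosed
  haveI := hc; haveI := hZ'
  haveI : IsClosedImmersion c := IsClosedImmersion.of_isPreimmersion c (by rw [hr]; exact isClosed_closure)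
  haveI : IsClosedImmersion (pullback.snd c j) := inferInstance
  haveI : Surjective (pullback.snd c j) := ⟨fun x => by
    obtain ⟨y, hy⟩ := hr.superset (subset_closure ⟨x, rfl⟩)
    obtain ⟨w, -, hw⟩ := Scheme.Pullback.exists_preimage_pullback (f := c) (g := j) y x hy
    exact ⟨w, hw⟩⟩
  haveI : IsIso (pullback.snd c j) := isIso_of_isClosedImmersion_of_surjective _
  let j' : R ⟶ Z' := inv (pullback.snd c j) ≫ pullback.fst c j
  haveI : IsOpenImmersion j' := inferInstance
  have hjc : j' ≫ c = j := by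
    show (inv (pullback.snd c j) ≫ pullback.fst c j) ≫ c = j
    rw [Category.assoc, pullback.condition, IsIso.inv_hom_id_assoc]
  haveI : IrreducibleSpace Z' := by
    have h1 : IsIrreducible (Set.range j.base) := by
      rw [← Set.image_univ]
      exact (IrreducibleSpace.isIrreducible_univ _).image _ j.continuous.continuousOn
    have h2 : IsIrreducible (Set.range c.base) := hr ▸ h1.closure
    obtain ⟨⟨z₀, a, rfl⟩, hpre⟩ := h2
    haveI : Nonempty Z' := ⟨a⟩
    refine { toPreirreducibleSpace := ⟨fun u v hu hv hu' hv' => ?_⟩, toNonempty := ⟨a⟩ }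
    obtain ⟨u', hu1, rfl⟩ := c.isClosedEmbedding.isInducing.isOpen_iff.1 hu
    obtain ⟨v', hv1, rfl⟩ := c.isClosedEmbedding.isInducing.isOpen_iff.1 hv
    obtain ⟨x, -, hx⟩ := hu'
    obtain ⟨y, -, hy⟩ := hv'
    obtain ⟨_, ⟨w, rfl⟩, hw⟩ := hpre u' v' hu1 hv1 ⟨_, ⟨x, rfl⟩, hx⟩ ⟨_, ⟨y, rfl⟩, hy⟩
    exact ⟨w, trivial, hw⟩
  haveI : IsIntegral Z' := isIntegral_of_irreducibleSpace_of_isReduced _
  let φ : Z' ⟶ X := c ≫ π
  haveI : IsFinite φ := inferInstance
  have hg : j' ≫ φ = g := by
    show j' ≫ c ≫ π = g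
    rw [← Category.assoc, hjc, hfac]
  have hdim : topologicalKrullDim Z' ≤ n := (topDim_le_of_quasiFinite φ).trans hn
  let f' : Z' ⟶ Spec (CommRingCat.of k) := φ ≫ f
  let U := j'.opensRange
  have hUne : (U : Set Z').Nonempty := ⟨j'.base (Classical.arbitrary R), Classical.arbitrary R, rfl⟩
  obtain ⟨Y, i, hi, -, hiY⟩ := exists_reduced_immersion (X := Z') (E := (U : Set Z')ᶜ)
    U.isOpen.isClosed_compl.isLocallyClosed
  haveI := hi
  haveI : IsClosedImmersion i := IsClosedImmersion.of_isPreimmersion i (by rw [hiY]; exact U.isOpen.isClosed_compl)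
  haveI : AlgebraicGeometry.Etale U.ι := inferInstance
  haveI : EtShriek.JCont U.ι := jCont U.ι
  obtain ⟨w, hS⟩ := shortExact_recollement i U (by rw [hiY, compl_compl]) (EtCoh.const Z' (ZMod p))
  have h1 : Van n (EtCoh.const Z' (ZMod p)) := van_const_integral p f' n hdim
  have hY : ∀ q : ℕ, n ≤ q →
      Subsingleton (EtCoh.H Z' ((EtCoh.push i).obj ((EtCoh.pull i).obj (EtCoh.const Z' (ZMod p)))) q) := by
    intro q hq
    refine subsingleton_push_H i _ q ?_
    suffices h : Subsingleton (EtCoh.H Y (EtCoh.const Y (ZMod p)) q) from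
      (EtAcycLib.bijective_mk₀_iso_postcomp (EtCore.pullConst i (ZMod p)) q).1.subsingleton
    rcases isEmpty_or_nonempty Y with hYe | hYne
    · refine subsingleton_of_forall_eq 0 fun (x : Ext.{u + 1} _ _ q) => ?_
      rw [← Ext.comp_mk₀_id x, (isZero_of_isEmpty (EtCoh.const Y (ZMod p))).eq_of_src (𝟙 _) 0, Ext.mk₀_zero,
        Ext.comp_zero]
    · refine hlow (i ≫ f') ?_ q hq
      have hne : Set.range i.base ≠ Set.univ := by
        rw [hiY, Ne, Set.compl_univ_iff]
        exact hUne.ne_empty
      exact dim_lt_of_closed i hne n hdim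
  have h2 : Van n ((EtShriek.extZero U.ι).obj ((EtShriek.restrAlong U.ι).obj (EtCoh.const Z' (ZMod p)))) := by
    intro q hq
    obtain ⟨r, rfl⟩ := Nat.exists_eq_succ_of_ne_zero (show q ≠ 0 by omega)
    refine subsingleton_of_forall_eq 0 fun (x : Ext.{u + 1} _ _ (r + 1)) => ?_
    obtain ⟨y, hy⟩ := Ext.covariant_sequence_exact₁ _ hS x
      ((h1 (r + 1) hq).elim (Ext.comp x (Ext.mk₀ _) (add_zero (r + 1)) :
        EtCoh.H Z' (EtCoh.const Z' (ZMod p)) (r + 1)) 0) (n₀ := r) rfl
    rw [← hy, (hY r (by omega)).elim (y : EtCoh.H Z' _ r) 0, Ext.zero_comp]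
  let e : R ⟶ (U : Scheme.{u}) := j'.isoOpensRange.hom
  haveI := isIso_preι e
  haveI := isIso_preι φ
  have he : e ≫ U.ι = j' := Scheme.Hom.isoOpensRange_hom_ι j'
  obtain ⟨γ⟩ := nonempty_preF_congr (show (e ≫ U.ι) ≫ φ = g by rw [he, hg])
  obtain ⟨cst⟩ := nonempty_const_push_iso e (ZMod p)
  obtain ⟨θ⟩ := nonempty_pull_iso_restrAlong U.ι (EtCoh.const Z' (ZMod p))
  let ρ : EtCoh.const (U : Scheme.{u}) (ZMod p) ≅ (EtShriek.restrAlong U.ι).obj (EtCoh.const Z' (ZMod p)) :=
    (EtCore.pullConst U.ι (ZMod p)).symm ≪≫ θ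
  refine ((van_push φ h2).of_iso ?_).of_iso (γ.app (EtCoh.const R (ZMod p)))
  exact (EtCoh.push φ).mapIso ((extZeroPreIso U.ι).app _ ≪≫ (preF U.ι).mapIso (ρ.symm ≪≫ cst.symm ≪≫
      ((asIso (preι e)).app _).symm) ≪≫ ((preCompIso e U.ι).app _).symm) ≪≫
    ((asIso (preι φ)).app _).symm ≪≫ ((preCompIso (e ≫ U.ι) φ).app _).symm

theorem baseVan_of_low {X : Scheme.{u}} [IsNoetherian X] (f : X ⟶ Spec (CommRingCat.of k)) [IsSeparated f]
    [LocallyOfFiniteType f] [QuasiCompact f] (n : ℕ) (hn : topologicalKrullDim X ≤ n) (hlow : LowVan k p n) :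
    BaseVan X p n := by
  intro T g _ _ _ _
  haveI : IsLocallyNoetherian T := LocallyOfFiniteType.isLocallyNoetherian g
  haveI : CompactSpace T := QuasiCompact.compactSpace_of_compactSpace g
  haveI : IsNoetherian T := { }
  suffices key : ∀ S : Closeds T, ∀ (C : Scheme.{u}) (c : C ⟶ T) [IsClosedImmersion c],
      Set.range c.base = S → Van n ((preF (c ≫ g)).obj (EtCoh.const C (ZMod p))) by
    obtain ⟨cst⟩ := nonempty_const_push_iso (𝟙 T) (ZMod p)
    exact van_preF_of_iso (𝟙 T) g cst (key ⊤ T (𝟙 T) (by simp))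
  intro S
  induction S using WellFoundedLT.induction with
  | _ S ih =>
  intro C c _ hcS
  haveI : LocallyQuasiFinite c := inferInstance
  rcases isEmpty_or_nonempty C with hC | hC
  · haveI := additive_preF (c ≫ g)
    exact van_of_isZero ((preF (c ≫ g)).map_isZero (isZero_of_isEmpty _))
  haveI : IsLocallyNoetherian C := LocallyOfFiniteType.isLocallyNoetherian c
  haveI : CompactSpace C := QuasiCompact.compactSpace_of_compactSpace c
  haveI : IsNoetherian C := { }
  obtain ⟨o, ho, hne, hsub⟩ := NoetherianSpace.exists_isOpen_nonempty_subset_irreducibleComponent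
    (irreducibleComponent (Classical.arbitrary C)) (irreducibleComponent_mem_irreducibleComponents _)
  let U : C.Opens := ⟨o, ho⟩
  haveI : AlgebraicGeometry.Etale U.ι := inferInstance
  haveI : EtShriek.JCont U.ι := jCont U.ι
  haveI : QuasiCompact U.ι := inferInstance
  obtain ⟨D, d, hd, -, hdU⟩ := exists_reduced_immersion (X := C) (E := (U : Set C)ᶜ)
    U.isOpen.isClosed_compl.isLocallyClosed
  haveI := hd
  haveI : IsClosedImmersion d := IsClosedImmersion.of_isPreimmersion d (by rw [hdU]; exact U.isOpen.isClosed_compl)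
  obtain ⟨w, hS⟩ := shortExact_recollement d U (by rw [hdU, compl_compl]) (EtCoh.const C (ZMod p))
  haveI := isIso_preι d
  refine Van.middle (shortExact_preF (c ≫ g) hS) ?_ ?_
  · show Van n ((preF (c ≫ g)).obj ((EtShriek.extZero U.ι).obj
      ((EtShriek.restrAlong U.ι).obj (EtCoh.const C (ZMod p)))))
    obtain ⟨θ⟩ := nonempty_pull_iso_restrAlong U.ι (EtCoh.const C (ZMod p))
    let ρ : EtCoh.const (U : Scheme.{u}) (ZMod p) ≅ (EtShriek.restrAlong U.ι).obj (EtCoh.const C (ZMod p)) :=
      (EtCore.pullConst U.ι (ZMod p)).symm ≪≫ θ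
    refine Van.of_iso ?_ ((preF (c ≫ g)).mapIso (((preF U.ι).mapIso ρ) ≪≫ ((extZeroPreIso U.ι).app _).symm))
    refine Van.of_iso ?_ ((preCompIso U.ι (c ≫ g)).app _)
    obtain ⟨R, r, hr, hR, hrU⟩ := exists_reduced_immersion (X := (U : Scheme.{u})) (E := Set.univ)
      isClosed_univ.isLocallyClosed
    haveI := hr; haveI := hR
    haveI : IsClosedImmersion r := IsClosedImmersion.of_isPreimmersion r (by rw [hrU]; exact isClosed_univ)
    haveI : Surjective r := ⟨Set.range_eq_univ.1 hrU⟩
    have hirr : IsIrreducible o :=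
      ⟨hne, (isIrreducible_irreducibleComponent (x := Classical.arbitrary C)).2.open_subset ho hsub⟩
    haveI : IrreducibleSpace (U : Scheme.{u}) :=
      { toPreirreducibleSpace := Subtype.preirreducibleSpace hirr.2, toNonempty := hne.to_subtype }
    haveI : IrreducibleSpace R := by
      let h := (IsHomeomorph.homeomorph r.base ((isHomeomorph_iff_isEmbedding_surjective).2
        ⟨r.isClosedEmbedding.toIsEmbedding, r.surjective⟩))
      exact h.symm.surjective.irreducibleSpace h.symm.continuous
    haveI : IsIntegral R := isIntegral_of_irreducibleSpace_of_isReduced _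
    obtain ⟨cst⟩ := nonempty_const_push_iso_of_surjective r (ZMod p)
    exact van_preF_of_iso r (U.ι ≫ c ≫ g) cst (van_preF_integral p f n hn hlow (r ≫ U.ι ≫ c ≫ g))
  · show Van n ((preF (c ≫ g)).obj ((EtCoh.push d).obj ((EtCoh.pull d).obj (EtCoh.const C (ZMod p)))))
    let S' : Closeds T := ⟨Set.range (d ≫ c).base, (d ≫ c).isClosedEmbedding.isClosed_range⟩
    have hlt : S' < S := by
      refine lt_of_le_of_ne (fun x hx => ?_) fun e => ?_
      · obtain ⟨y, rfl⟩ := hx
        show (d ≫ c).base y ∈ (S : Set T)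
        rw [← hcS]
        exact ⟨d.base y, rfl⟩
      · obtain ⟨x, hx⟩ := hne
        have : c.base x ∈ (S' : Set T) := by rw [e, ← hcS]; exact ⟨x, rfl⟩
        obtain ⟨y, hy⟩ := this
        have hx' : d.base y = x := c.isClosedEmbedding.injective hy
        have : x ∈ (U : Set C)ᶜ := hdU.subset ⟨y, hx'⟩
        exact this hx
    have h := ih S' hlt D (d ≫ c) rfl
    obtain ⟨γ⟩ := nonempty_preF_congr (Category.assoc d c g)
    exact van_preF_of_iso d (c ≫ g) ((EtCoh.push d).mapIso (EtCore.pullConst d (ZMod p)).symm) (h.of_iso (γ.app _))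

theorem lowVan : ∀ n : ℕ, LowVan k p n := by
  intro n
  induction n with
  | zero =>
    intro Y f _ _ _ hd q _
    rcases isEmpty_or_nonempty Y with hYe | hYne
    · refine subsingleton_of_forall_eq 0 fun (x : Ext.{u + 1} _ _ q) => ?_
      rw [← Ext.comp_mk₀_id x, (isZero_of_isEmpty (EtCoh.const Y (ZMod p))).eq_of_src (𝟙 _) 0, Ext.mk₀_zero,
        Ext.comp_zero]
    · haveI : Nonempty (IrreducibleCloseds Y) :=
        ⟨⟨closure {Classical.arbitrary Y}, isIrreducible_singleton.closure, isClosed_closure⟩⟩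
      exact absurd (Order.krullDim_nonneg (α := IrreducibleCloseds Y)) (not_le.2 (by exact_mod_cast hd))
  | succ m ih =>
    intro Y f _ _ _ hd q hq
    haveI : IsLocallyNoetherian Y := LocallyOfFiniteType.isLocallyNoetherian f
    haveI : CompactSpace Y := QuasiCompact.compactSpace_of_compactSpace f
    haveI : IsNoetherian Y := { }
    have h := baseVan_of_low p f m (le_of_lt_succ' hd) ih (𝟙 Y)
    haveI := isIso_preι (𝟙 Y)
    obtain ⟨cst⟩ := nonempty_const_push_iso (𝟙 Y) (ZMod p)
    exact (h.of_iso ((asIso (preι (𝟙 Y))).app _ ≪≫ cst)) q (by omega)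

/-- `cd_p ≤ dim` for separated schemes of finite type over a separably closed field. -/
theorem cohDimLEAt_sepClosed {X : Scheme.{u}} (f : X ⟶ Spec (CommRingCat.of k)) [IsSeparated f]
    [LocallyOfFiniteType f] [QuasiCompact f] (n : ℕ) (hn : topologicalKrullDim X ≤ n) :
    Dix.CohDimLEAt X p n := by
  haveI : IsLocallyNoetherian X := LocallyOfFiniteType.isLocallyNoetherian f
  haveI : CompactSpace X := QuasiCompact.compactSpace_of_compactSpace f
  haveI : IsNoetherian X := { }
  exact cohDimLEAt_of_base p n (baseVan_of_low p f n hn (lowVan p n))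

end CdCharPLib

end
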