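import Groth.Agent.EtShLib.ShriekPush
import Groth.Agent.EtShLib.RestrNat
import Groth.Agent.EtShLib.JContAll
import Groth.Agent.S8532
import Groth.Agent.EtTransferLib.Basic
import Groth.Agent.CovDevLib.Part

/-!
# A retraction of the unit along a finite étale morphism of degree prime to `ℓ`
-/

set_option autoImplicit false
set_option linter.unusedSectionVars false
set_option linter.style.haveILetI false
set_option backward.isDefEq.respectTransparency false
set_option backward.isDefEq.respectTransparency.types false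
set_option maxHeartbeats 1000000

universe u
open CategoryTheory CategoryTheory.Limits AlgebraicGeometry Opposite
open Groth.Agent Groth.Agent.EtShLib

noncomputable section

namespace CdCharPLib

theorem exists_retraction {X' X : Scheme.{u}} (π : X' ⟶ X) [IsFinite π] [Etale π]
    [EtCoh.BCCont π] (ℓ : ℕ) (G : EtCoh.Ab X) (hG : ℓ • 𝟙 G = 0)
    (hd : ∀ (Ω : Type u) [Field Ω] [IsSepClosed Ω] (ξ : Spec (CommRingCat.of Ω) ⟶ X),
      Nat.Coprime ℓ (Nat.card {u : Spec (CommRingCat.of Ω) ⟶ X' // u ≫ π = ξ}) ∨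
        Subsingleton ((stk (A := AddCommGrpCat.{u + 1}) ξ).obj G)) :
    ∃ v : (EtCoh.push π).obj ((EtCoh.pull π).obj G) ⟶ G,
      (EtCoh.pullPushAdj π).unit.app G ≫ v = 𝟙 G := by
  haveI := jCont π
  let S : EtShriek.extZero π ≅ EtCoh.push π :=
    @NatIso.ofComponents _ _ _ _ (EtShriek.extZero π) (EtCoh.push π)
      (fun G => @asIso _ _ _ _ (shriekToPush π G) (isIso_shriekToPush π G))
      (fun α => shriekToPush_natural π _ α)
  haveI : ∀ G, IsIso ((restrTheta π).app G) := fun G => NatIso.isIso_app_of_isIso (restrTheta π) G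
  let θ : EtCoh.pull π ≅ EtShriek.restrAlong π := asIso (restrTheta π)
  let tr : (EtCoh.push π).obj ((EtCoh.pull π).obj G) ⟶ G := (EtCoh.push π).map ((restrTheta π).app G) ≫
    S.inv.app ((EtShriek.restrAlong π).obj G) ≫ (EtShriek.extZeroAdj π).counit.app G
  let c := (EtCoh.pullPushAdj π).unit.app G ≫ tr
  have hu : (EtCoh.pullPushAdj π).unit.app G ≫ (EtCoh.push π).map ((restrTheta π).app G) = (restrEta π).app G :=
    ((EtCoh.pullPushAdj π).homEquiv_unit (f := (restrTheta π).app G)).symm.trans (Equiv.apply_symm_apply _ _)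
  have key : ∀ (Ω : Type u) [Field Ω] [IsSepClosed Ω] (ξ : Spec (CommRingCat.of Ω) ⟶ X)
      (P : ToType ((stk (A := AddCommGrpCat.{u + 1}) ξ).obj G)), (stk (A := AddCommGrpCat.{u + 1}) ξ).map c P =
        Nat.card {u : Spec (CommRingCat.of Ω) ⟶ X' // u ≫ π = ξ} • P := by
    intro Ω _ _ ξ P
    obtain ⟨W, w, s, rfl⟩ := exists_germ (A := AddCommGrpCat.{u + 1}) ξ P
    show (stk (A := AddCommGrpCat.{u + 1}) ξ).map ((EtCoh.pullPushAdj π).unit.app G ≫
      (EtCoh.push π).map ((restrTheta π).app G) ≫ S.inv.app ((EtShriek.restrAlong π).obj G) ≫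
      (EtShriek.extZeroAdj π).counit.app G) _ = _
    rw [← Category.assoc, hu]
    classical
    let H := (EtShriek.restrAlong π).obj G
    haveI : Finite {u : Spec (CommRingCat.of Ω) ⟶ X' // u ≫ π = ξ} := finite_lifts π ξ
    haveI := Fintype.ofFinite {u : Spec (CommRingCat.of Ω) ⟶ X' // u ≫ π = ξ}
    haveI := isIso_shriekToPush π H
    let p := (stk (A := AddCommGrpCat.{u + 1}) ξ).map ((restrEta π).app G) (germ ξ G W w s)
    have hp : (stk (A := AddCommGrpCat.{u + 1}) ξ).map (shriekToPush π H)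
        (∑ u, inclStalk π H ξ u (compareAt π H ξ u p)) = p := by
      refine sub_eq_zero.1 (compareAt_jointly_injective π H ξ _ fun u => ?_)
      rw [map_sub, sub_eq_zero, map_sum, map_sum]
      show ∑ v, (inclStalk π H ξ v ≫ (stk (A := AddCommGrpCat.{u + 1}) ξ).map (shriekToPush π H) ≫
        compareAt π H ξ u) (compareAt π H ξ v p) = _
      rw [Finset.sum_eq_single_of_mem u (Finset.mem_univ u)
        (fun v _ hv => by rw [(inclStalk_compareAt π H ξ u).2 v hv]; rfl), (inclStalk_compareAt π H ξ u).1]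
      rfl
    have hS : (stk (A := AddCommGrpCat.{u + 1}) ξ).map (S.inv.app H) p = ∑ u, inclStalk π H ξ u (compareAt π H ξ u p) := by
      conv_lhs => rw [← hp]
      rw [← ConcreteCategory.comp_apply, ← Functor.map_comp]
      show (stk (A := AddCommGrpCat.{u + 1}) ξ).map (S.hom.app H ≫ S.inv.app H) _ = _
      rw [S.hom_inv_id_app, CategoryTheory.Functor.map_id]
      rfl
    have hterm : ∀ u, restrStalk π G ξ u (compareAt π H ξ u p) = germ ξ G W w s := by
      rintro ⟨u₀, rfl⟩
      rw [show compareAt π H (u₀ ≫ π) ⟨u₀, rfl⟩ = compare (A := AddCommGrpCat.{u + 1}) π u₀ H from Category.id_comp _]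
      have e1 : compare (A := AddCommGrpCat.{u + 1}) π u₀ H p =
          germ u₀ H ((EtCoh.bc π).obj W) (w.lift π u₀) (G.obj.map (compBc π W).op s) := by
        show compare (A := AddCommGrpCat.{u + 1}) π u₀ H ((stk (u₀ ≫ π)).map ((restrEta π).app G) (germ (u₀ ≫ π) G W w s)) = _
        refine (congrArg (compare (A := AddCommGrpCat.{u + 1}) π u₀ H)
          (germ_natural_apply (u₀ ≫ π) ((restrEta π).app G) W w s)).trans ?_
        exact congrArg (fun q : ((EtCoh.push π).obj H).obj.obj (op W) ⟶ (stk (A := AddCommGrpCat.{u + 1}) u₀).obj H =>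
          q (G.obj.map (compBc π W).op s)) (germ_compare (A := AddCommGrpCat.{u + 1}) π u₀ H W w)
      rw [e1]
      refine (congrArg (fun q : H.obj.obj (op ((EtCoh.bc π).obj W)) ⟶ (stk (A := AddCommGrpCat.{u + 1}) (u₀ ≫ π)).obj G =>
        q (G.obj.map (compBc π W).op s)) (germ_restrStalk π G (u₀ ≫ π) ⟨u₀, rfl⟩ _ (w.lift π u₀))).trans ?_
      refine (germ_res_apply (u₀ ≫ π) G (compBc π W) _ s).trans ?_
      exact congrArg (fun q => germ (u₀ ≫ π) G W q s) (Fib.ext (pullback.lift_fst _ _ _))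
    rw [Functor.map_comp, Functor.map_comp, ConcreteCategory.comp_apply, ConcreteCategory.comp_apply]
    show (stk (A := AddCommGrpCat.{u + 1}) ξ).map ((EtShriek.extZeroAdj π).counit.app G)
      ((stk (A := AddCommGrpCat.{u + 1}) ξ).map (S.inv.app H) p) = _
    rw [hS, map_sum]
    show ∑ u, restrStalk π G ξ u (compareAt π H ξ u p) = _
    rw [Finset.sum_congr rfl fun u _ => hterm u, Finset.sum_const, Finset.card_univ, ← Nat.card_eq_fintype_card]
  haveI : IsIso c := isIso_of_stalks (A := AddCommGrpCat.{u + 1}) _ fun Ω _ _ ξ => by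
    rw [ConcreteCategory.isIso_iff_bijective]
    rcases hd Ω ξ with hc | hc
    swap
    · exact ⟨fun a b _ => hc.elim a b, fun b => ⟨b, hc.elim _ _⟩⟩
    let n := Nat.card {u : Spec (CommRingCat.of Ω) ⟶ X' // u ≫ π = ξ}
    have hk : ∀ P : ToType ((stk (A := AddCommGrpCat.{u + 1}) ξ).obj G), ℓ • P = 0 := fun P => by
      obtain ⟨W, w, s, rfl⟩ := exists_germ (A := AddCommGrpCat.{u + 1}) ξ P
      rw [← map_nsmul, ← EtTransferLib.nsmul_id_app G ℓ W s, hG]
      exact map_zero _
    obtain ⟨m, hm1, hm0⟩ := Nat.chineseRemainder hc 1 0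
    obtain ⟨a, rfl⟩ := Nat.modEq_zero_iff_dvd.1 hm0
    have hinv : ∀ P : ToType ((stk (A := AddCommGrpCat.{u + 1}) ξ).obj G), (n * a) • P = P :=
      fun P => CovDevLib.nsmul_eq_self (hk P) hm1
    refine ⟨(injective_iff_map_eq_zero _).2 fun P hP => ?_, fun P => ⟨a • P, ?_⟩⟩
    · rw [← hinv P, mul_comm, mul_smul]
      rw [key] at hP
      rw [show n • P = 0 from hP, smul_zero]
    · rw [key, ← mul_smul]
      exact hinv P
  exact ⟨tr ≫ inv c, by rw [← Category.assoc]; exact IsIso.hom_inv_id c⟩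

end CdCharPLib

end
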